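import Cfsg.Agent.SpFourPres.Gens
import Cfsg.Prelude.Def_Classical

/-!
# Short presentations of Sp4 and PSp4
-/

set_option autoImplicit false

namespace Cfsg.Agent.SpFourPres

open Polynomial Cfsg.Agent.SL2Pres Cfsg.Agent.SL3Pres

variable {F : Type*} [Field F] [Fintype F] {p : ℕ} [Fact p.Prime] [Algebra (ZMod p) F]

omit [Fintype F] in
theorem natDegree_minpoly_base {x : F} (a : ZMod p) (hx : x = algebraMap (ZMod p) F a) :
    (minpoly (ZMod p) x).natDegree ≤ 2 := by
  rw [hx, minpoly.eq_X_sub_C, natDegree_X_sub_C]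
  omega

theorem exists_par {ν : Fˣ} (hν : orderOf ν = Fintype.card F - 1) :
    ∃ D : Par p, D.Ok ν := by
  classical
  have hν' : orderOf ν⁻¹ = Fintype.card F - 1 := by rw [orderOf_inv, hν]
  obtain ⟨e, he'⟩ := exists_pow_eq hν (show (-1 : F) ≠ 0 by simp)
  have he : (ν : F) ^ e = -1 := he'.symm
  obtain ⟨j, hj⟩ := exists_pow_eq hν (show -(ν : F)⁻¹ ≠ 0 by simp)
  have hsu : Function.Surjective
      ⇑(Polynomial.aeval (((ν⁻¹ : Fˣ) : F) ^ 1) : (ZMod p)[X] →ₐ[ZMod p] F) := by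
    intro b
    rcases eq_or_ne b 0 with rfl | hb
    · exact ⟨0, map_zero _⟩
    obtain ⟨i, rfl⟩ := exists_pow_eq hν' hb
    exact ⟨X ^ i, by rw [map_pow, aeval_X, pow_one]⟩
  obtain ⟨stu, su⟩ : ∃ st, Step p ν⁻¹ 1 st := by
    by_cases h : 1 + ((ν⁻¹ : Fˣ) : F) = 0
    · refine ⟨none, hsu, fun m hm => (by cases hm), fun _ => natDegree_minpoly_base (-1) ?_⟩
      rw [pow_one, map_neg, map_one]
      exact eq_neg_of_add_eq_zero_right h
    · obtain ⟨m, hm⟩ := exists_pow_eq hν' h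
      refine ⟨some m, hsu, fun m' hm' => ?_, fun h' => by cases h'⟩
      cases hm'
      rw [pow_one, hm]
  obtain ⟨iv, stv, sv⟩ : ∃ i st, Step p (ν ^ 2) i st := by
    have hs1 : Function.Surjective
        ⇑(Polynomial.aeval (((ν ^ 2 : Fˣ) : F) ^ 1) : (ZMod p)[X] →ₐ[ZMod p] F) := by
      rw [pow_one, Units.val_pow_eq_pow_val]
      exact surjective_sq hν
    have hchar : CharP F p := charP_of_injective_algebraMap (algebraMap (ZMod p) F).injective p
    by_cases hp2 : p = 2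
    · subst hp2
      by_cases h1 : 1 + (ν : F) = 0
      · refine ⟨1, none, hs1, fun m hm => (by cases hm), fun _ => natDegree_minpoly_base 1 ?_⟩
        rw [pow_one, Units.val_pow_eq_pow_val, map_one, eq_neg_of_add_eq_zero_right h1, neg_one_sq]
      · obtain ⟨m, hm⟩ := exists_pow_eq hν h1
        refine ⟨1, some m, hs1, fun m' hm' => ?_, fun h' => by cases h'⟩
        cases hm'
        rw [pow_one, Units.val_pow_eq_pow_val, ← pow_mul, mul_comm, pow_mul, ← hm, CharTwo.add_sq,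
          one_pow]
    · by_cases hbig : 7 ≤ Fintype.card F ∧ Fintype.card F ≠ 9
      · obtain ⟨k, m, hkm, hsurj⟩ := exists_step (p := p) hν hp2 hbig.1 hbig.2
        refine ⟨k, some m, by rw [Units.val_pow_eq_pow_val]; exact hsurj, fun m' hm' => ?_,
          fun h' => by cases h'⟩
        cases hm'
        rw [Units.val_pow_eq_pow_val]
        exact hkm
      · refine ⟨1, none, hs1, fun m hm => (by cases hm), fun _ => ?_⟩
        refine (minpoly.natDegree_le (A := ZMod p) _).trans ?_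
        have h9 : Fintype.card F ≤ 9 := by omega
        rw [Module.card_eq_pow_finrank (K := ZMod p) (V := F), ZMod.card] at h9
        by_contra h3
        have hp3 : 3 ≤ p := by have := (Fact.out : p.Prime).two_le; omega
        have := Nat.pow_le_pow_left hp3 (Module.finrank (ZMod p) F)
        have := Nat.pow_le_pow_right (show 0 < 3 by norm_num) (not_le.mp h3)
        omega
  obtain ⟨gu, hgu⟩ := su.surj ((ν⁻¹ : Fˣ) : F)
  obtain ⟨gv, hgv⟩ := sv.surj ((ν ^ 2 : Fˣ) : F)
  obtain ⟨gn, hgn⟩ := sv.surj (ν : F)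
  obtain ⟨gd, hgd⟩ := sv.surj (-(ν : F)⁻¹)
  exact ⟨⟨e, 1, iv, j, stu, stv, minpoly (ZMod p) (((ν⁻¹ : Fˣ) : F) ^ 1),
    minpoly (ZMod p) (((ν ^ 2 : Fˣ) : F) ^ iv), gu, gv, gn, gd⟩,
    he, hj.symm, su, sv, rfl, rfl, hgu, hgv, hgn, hgd⟩

/-- The presentation of a quotient of `Sp(4, F)` of the right order. -/
theorem pres_iso {T : Type*} [Group T] [Finite T] {ν : Fˣ}
    (hν : orderOf ν = Fintype.card F - 1) {D : Par p} (hD : D.Ok ν) (π : Sp4 F →* T)
    (hπ : Function.Surjective π) (N₁ : ℕ) (hN₀ : 0 < N₁) (hN : π (hM ν) ^ N₁ = 1)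
    (hcard : Fintype.card F ^ 4 * (N₁ * (Fintype.card F - 1)) *
      ((Fintype.card F + 1) ^ 2 * (Fintype.card F ^ 2 + 1)) ≤ Nat.card T) :
    ∃ rels : Finset (FreeGroup (Fin 6)), rels.card ≤ 32 ∧
      Nonempty (PresentedGroup (↑rels : Set (FreeGroup (Fin 6))) ≃* T) := by
  classical
  have hq : 0 < Fintype.card F - 1 := by
    have := Fintype.one_lt_card (α := F)
    omega
  have hνN : ν ^ (Fintype.card F - 1) = 1 := by rw [← hν, pow_orderOf_eq_one]
  let L := allRels D N₁ (Fintype.card F - 1) (FreeGroup.of (0 : Fin 6)) (FreeGroup.of 1)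
    (FreeGroup.of 2) (FreeGroup.of 3) (FreeGroup.of 4) (FreeGroup.of 5)
  refine ⟨L.toFinset, (List.toFinset_card_le L).trans (length_allRels ..).le, ?_⟩
  let f : Fin 6 → T := ![π (uM 1), π (vM 1), π (hM ν), π (kM ν), π aM, π bM]
  have hmodel : ∀ r ∈ L, FreeGroup.lift f r = 1 := by
    intro r hr
    have hm : FreeGroup.lift f r ∈ L.map (FreeGroup.lift f) := List.mem_map_of_mem hr
    simp only [L, map_allRels, FreeGroup.lift_apply_of, f] at hm
    simp only [Matrix.cons_val_zero, Matrix.cons_val_one, Matrix.cons_val] at hm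
    rw [allRels, ← map_coreRels, List.mem_cons] at hm
    rcases hm with hm | hm
    · rw [hm]; exact hN
    · obtain ⟨z, hz, hze⟩ := List.mem_map.1 hm
      rw [← hze, model_rels (fun t ht => exists_pow_eq hν ht) hD hνN z hz, map_one]
  let χ : PresentedGroup (↑L.toFinset : Set (FreeGroup (Fin 6))) →* T :=
    PresentedGroup.toGroup (f := f) (fun r hr => hmodel r (by simpa using hr))
  have hχ : Function.Surjective χ := by
    rw [← MonoidHom.range_eq_top, eq_top_iff]
    have h : (Subgroup.closure ({uM (1 : F), vM 1, hM ν, kM ν, aM, bM} : Set (Sp4 F))).map π = ⊤ := by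
      rw [closure_model (p := p) hν hD.neg, ← MonoidHom.range_eq_map, MonoidHom.range_eq_top.2 hπ]
    rw [← h, MonoidHom.map_closure, Subgroup.closure_le]
    have hf : ∀ i, f i ∈ χ.range := fun i => ⟨_, PresentedGroup.toGroup.of _⟩
    rintro _ ⟨z, hz, rfl⟩
    rcases hz with rfl | rfl | rfl | rfl | rfl | rfl
    exacts [hf 0, hf 1, hf 2, hf 3, hf 4, hf 5]
  let P := PresentedGroup (↑L.toFinset : Set (FreeGroup (Fin 6)))
  let g : Fin 6 → P := fun i => PresentedGroup.of i
  have hr : ∀ z ∈ allRels D N₁ (Fintype.card F - 1) (g 0) (g 1) (g 2) (g 3) (g 4) (g 5), z = 1 := by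
    intro z hz
    have e : L.map (PresentedGroup.mk (↑L.toFinset : Set (FreeGroup (Fin 6)))) =
        allRels D N₁ (Fintype.card F - 1) (g 0) (g 1) (g 2) (g 3) (g 4) (g 5) := map_allRels ..
    rw [← e] at hz
    obtain ⟨r, hr', rfl⟩ := List.mem_map.1 hz
    exact PresentedGroup.one_of_mem (by simpa using hr')
  rw [allRels, List.forall_mem_cons] at hr
  obtain ⟨hh, hcore⟩ := hr
  obtain ⟨φ, ψ, hu, hv, U, ha, hb, hk⟩ := derive hν hD hcore
  have hgen : Subgroup.closure ({φ 1, ψ 1, g 2, g 3, g 4, g 5} : Set P) = ⊤ := by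
    rw [eq_top_iff, ← PresentedGroup.closure_range_of (rels := (↑L.toFinset : Set (FreeGroup (Fin 6)))),
      hu, hv]
    refine Subgroup.closure_mono ?_
    rintro _ ⟨i, rfl⟩
    fin_cases i <;> simp [g]
  obtain ⟨hfin, hle⟩ := U.card_le ha hb hgen hN₀ hq hh hk
  have : Finite P := hfin
  exact ⟨MulEquiv.ofBijective χ (Nat.bijective_iff_surjective_and_card χ |>.2
    ⟨hχ, le_antisymm (hle.trans hcard) (Nat.card_le_card_of_surjective χ hχ)⟩)⟩

theorem card_sp4 : Nat.card (Sp4 F) = Fintype.card F ^ 4 *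
    ((Fintype.card F - 1) * (Fintype.card F - 1)) *
    ((Fintype.card F + 1) ^ 2 * (Fintype.card F ^ 2 + 1)) := by
  rw [Classical.card_symplecticGroup rfl]
  obtain ⟨m, hm⟩ : ∃ m, Fintype.card F = m + 1 :=
    ⟨_, (Nat.sub_add_cancel (Fintype.card_pos (α := F))).symm⟩
  rw [hm, Finset.prod_range_succ, Finset.prod_range_succ, Finset.prod_range_zero, one_mul]
  have e1 : (m + 1) ^ (2 * (0 + 1)) - 1 = m * (m + 2) := by
    rw [Nat.sub_eq_iff_eq_add (one_le_pow₀ (Nat.le_add_left 1 m))]; ring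
  have e2 : (m + 1) ^ (2 * (1 + 1)) - 1 = m * (m + 2) * ((m + 1) ^ 2 + 1) := by
    rw [Nat.sub_eq_iff_eq_add (one_le_pow₀ (Nat.le_add_left 1 m))]; ring
  rw [e1, e2, Nat.add_sub_cancel]
  ring

theorem exists_presentations (F : Type*) [Field F] [Fintype F] :
    (∃ rels : Finset (FreeGroup (Fin 6)), rels.card ≤ 32 ∧
      Nonempty (PresentedGroup (↑rels : Set (FreeGroup (Fin 6))) ≃* Sp4 F)) ∧
    (∃ rels : Finset (FreeGroup (Fin 6)), rels.card ≤ 32 ∧
      Nonempty (PresentedGroup (↑rels : Set (FreeGroup (Fin 6))) ≃* Cfsg.PSp 2 F)) := by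
  classical
  obtain ⟨p, hchar⟩ := CharP.exists F
  have : Fact p.Prime := ⟨CharP.char_is_prime F p⟩
  let alg : Algebra (ZMod p) F := ZMod.algebra F p
  obtain ⟨ν, hν⟩ := exists_gen_unit F
  obtain ⟨D, hD⟩ := exists_par (p := p) hν
  have hq : 0 < Fintype.card F - 1 := by
    have := Fintype.one_lt_card (α := F)
    omega
  have hνN : ν ^ (Fintype.card F - 1) = 1 := by rw [← hν, pow_orderOf_eq_one]
  refine ⟨pres_iso hν hD (MonoidHom.id _) Function.surjective_id _ hq
    (by rw [MonoidHom.id_apply, hM_pow, hνN, hM_one]) (card_sp4 (F := F)).ge, ?_⟩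
  set Z := Subgroup.center (Sp4 F)
  set d := Nat.gcd 2 (Fintype.card F - 1) with hd
  have hdvd : d ∣ Fintype.card F - 1 := Nat.gcd_dvd_right _ _
  have hd2 : d ∣ 2 := Nat.gcd_dvd_left _ _
  have hd0 : 0 < d := Nat.gcd_pos_of_pos_left _ two_pos
  refine pres_iso hν hD (QuotientGroup.mk' Z) (QuotientGroup.mk'_surjective Z)
    ((Fintype.card F - 1) / d) (Nat.div_pos (Nat.le_of_dvd hq hdvd) hd0) ?_ ?_
  · rw [← map_pow, hM_pow, QuotientGroup.mk'_apply, QuotientGroup.eq_one_iff]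
    set x := ν ^ ((Fintype.card F - 1) / d) with hx
    have hx2 : (x : F) ^ 2 = 1 := by
      obtain ⟨c, hc⟩ := hd2
      rw [hx, ← Units.val_pow_eq_pow_val, ← pow_mul, hc, ← mul_assoc, Nat.div_mul_cancel hdvd,
        pow_mul, hνN, one_pow, Units.val_one]
    rcases sq_eq_one_iff.1 hx2 with h | h
    · rw [show x = 1 from Units.ext h, hM_one]; exact one_mem Z
    · rw [show x = -1 from Units.ext (by simpa using h)]; exact hM_neg_one_central
  · have hcard := Subgroup.card_eq_card_quotient_mul_card_subgroup Z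
    rw [Classical.card_center_symplectic (by norm_num : 1 ≤ 2), ← hd, card_sp4] at hcard
    refine le_of_mul_le_mul_right (le_of_eq ?_) hd0
    rw [← hcard]
    conv_rhs => arg 1; arg 2; arg 1; rw [← Nat.div_mul_cancel hdvd]
    ring

end Cfsg.Agent.SpFourPres
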