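import Mathlib
import Cfsg.Agent.SL3Pres.Core

/-!
# Short presentations of Sp4: the Bruhat bound

An abstract group with two parametrised root groups, a torus and two Weyl elements satisfying the
relations of type C2 has at most as many elements as Sp(4, F) (relative to the torus).
-/

set_option autoImplicit false

namespace Cfsg.Agent.SpFourPres

open Cfsg.Agent.SL3Pres
open scoped commutatorElement Pointwise

variable {P : Type*} [Group P] {F : Type*} [Field F]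

/-- The root element of the short root `a + b`. -/
def ry (φ : F → P) (b : P) (t : F) : P := b * φ (1 * t) * b⁻¹

/-- The root element of the long root `2a + b`. -/
def rz (ψ : F → P) (a : P) (t : F) : P := a * ψ (1 * t) * a⁻¹

/-- The torus and Weyl relations and the actions on the two simple root groups. -/
structure Base (φ ψ : F → P) (h k a b : P) (ν : Fˣ) (e : ℕ) : Prop where
  neg : (ν : F) ^ e = -1
  gen : ∀ t : F, t ≠ 0 → ∃ i : ℕ, t = (ν : F) ^ i
  addu : ∀ s t, φ (s + t) = φ s * φ t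
  addv : ∀ s t, ψ (s + t) = ψ s * ψ t
  hk : Commute h k
  ah : a * h * a⁻¹ = h⁻¹
  ak : a * k * a⁻¹ = h * k
  bh : b * h * b⁻¹ = h * (k * k)
  bk : b * k * b⁻¹ = k⁻¹
  aa : a * a = h ^ e
  bb : b * b = k ^ e
  hu : Act h φ (ν ^ 2)
  ku : Act k φ ν⁻¹
  hv : Act h ψ (ν ^ 2)⁻¹
  kv : Act k ψ (ν ^ 2)

/-- The remaining relations. -/
structure Full (φ ψ : F → P) (h k a b : P) (ν : Fˣ) (e : ℕ) : Prop extends
    Base φ ψ h k a b ν e where
  braid : a * b * (a * b) = b * a * (b * a)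
  fixb : ∀ t, b * rz ψ a t * b⁻¹ = rz ψ a t
  fixa : ∀ t, a * ry φ b t * a⁻¹ = ry φ b (-t)
  cuv : ∀ s t, ⁅φ s, ψ t⁆ = rz ψ a (s * s * t) * ry φ b (-(s * t))
  cuy : ∀ s t, ⁅φ s, ry φ b t⁆ = rz ψ a (-(2 * s * t))
  cuz : ∀ s t, Commute (φ s) (rz ψ a t)
  cvy : ∀ s t, Commute (ψ s) (ry φ b t)
  cvz : ∀ s t, Commute (ψ s) (rz ψ a t)
  cyz : ∀ s t, Commute (ry φ b s) (rz ψ a t)

namespace Base

variable {φ ψ : F → P} {h k a b : P} {ν : Fˣ} {e : ℕ} (T : Base φ ψ h k a b ν e)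

include T

theorem zerou : φ 0 = 1 := by
  have := T.addu 0 0
  rw [add_zero] at this
  exact left_eq_mul.1 this

theorem zerov : ψ 0 = 1 := by
  have := T.addv 0 0
  rw [add_zero] at this
  exact left_eq_mul.1 this

theorem zeroy : ry φ b 0 = 1 := by simp [ry, T.zerou]

theorem zeroz : rz ψ a 0 = 1 := by simp [rz, T.zerov]

theorem addy (s t : F) : ry φ b (s + t) = ry φ b s * ry φ b t := by
  simp only [ry, mul_add, T.addu]; group

theorem addz (s t : F) : rz ψ a (s + t) = rz ψ a s * rz ψ a t := by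
  simp only [rz, mul_add, T.addv]; group

theorem negu (t : F) : φ (-t) = (φ t)⁻¹ :=
  eq_inv_of_mul_eq_one_left (by rw [← T.addu, neg_add_cancel, T.zerou])

theorem negv (t : F) : ψ (-t) = (ψ t)⁻¹ :=
  eq_inv_of_mul_eq_one_left (by rw [← T.addv, neg_add_cancel, T.zerov])

theorem negy (t : F) : ry φ b (-t) = (ry φ b t)⁻¹ :=
  eq_inv_of_mul_eq_one_left (by rw [← T.addy, neg_add_cancel, T.zeroy])

theorem negz (t : F) : rz ψ a (-t) = (rz ψ a t)⁻¹ :=
  eq_inv_of_mul_eq_one_left (by rw [← T.addz, neg_add_cancel, T.zeroz])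

theorem ainv_h : a⁻¹ * h * a = h⁻¹ := by
  have h1 : a⁻¹ * (a * h * a⁻¹) * a = h := by group
  rw [T.ah] at h1
  rw [← inv_inj, inv_inv]
  calc (a⁻¹ * h * a)⁻¹ = a⁻¹ * h⁻¹ * a := by group
    _ = h := h1

theorem ainv_k : a⁻¹ * k * a = h * k := by
  have h1 : a⁻¹ * (h * k) * a = k := by rw [← T.ak]; group
  have h2 : a⁻¹ * (h * k) * a = h⁻¹ * (a⁻¹ * k * a) := by rw [← T.ainv_h]; group
  rw [h2] at h1
  exact eq_mul_of_inv_mul_eq h1

theorem binv_k : b⁻¹ * k * b = k⁻¹ := by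
  have h1 : b⁻¹ * (b * k * b⁻¹) * b = k := by group
  rw [T.bk] at h1
  rw [← inv_inj, inv_inv]
  calc (b⁻¹ * k * b)⁻¹ = b⁻¹ * k⁻¹ * b := by group
    _ = k := h1

theorem binv_h : b⁻¹ * h * b = h * (k * k) := by
  have h1 : b⁻¹ * (h * (k * k)) * b = h := by rw [← T.bh]; group
  have h2 : b⁻¹ * (h * (k * k)) * b = (b⁻¹ * h * b) * ((b⁻¹ * k * b) * (b⁻¹ * k * b)) := by group
  rw [h2, T.binv_k] at h1
  calc b⁻¹ * h * b = (b⁻¹ * h * b) * (k⁻¹ * k⁻¹) * (k * k) := by group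
    _ = _ := by rw [h1]

theorem hy : Act h (ry φ b) 1 := by
  have := (T.hu.mul (T.ku.mul T.ku)).conj b T.binv_h 1
  have e1 : ν ^ 2 * (ν⁻¹ * ν⁻¹) = 1 := by group
  rw [e1] at this
  exact this

theorem ky : Act k (ry φ b) ν := by
  have := T.ku.inv.conj b T.binv_k 1
  rw [inv_inv] at this
  exact this

theorem hz : Act h (rz ψ a) (ν ^ 2) := by
  have := T.hv.inv.conj a T.ainv_h 1
  rw [inv_inv] at this
  exact this

theorem kz : Act k (rz ψ a) 1 := by
  have := (T.hv.mul T.kv).conj a T.ainv_k 1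
  rw [inv_mul_cancel] at this
  exact this

theorem a_rz (t : F) : a * rz ψ a t * a⁻¹ = ψ t := by
  have h1 : a * rz ψ a t * a⁻¹ = (a * a) * ψ (1 * t) * (a * a)⁻¹ := by simp only [rz]; group
  have h2 : ((ν ^ 2)⁻¹) ^ e = 1 := by
    have h3 : ν ^ e = (-1 : Fˣ) := Units.ext (by simpa using T.neg)
    rw [inv_pow, ← pow_mul, mul_comm, pow_mul, h3]; norm_num
  rw [h1, T.aa, (T.hv.pow e), h2, Units.val_one, one_mul, one_mul]

theorem b_ry (t : F) : b * ry φ b t * b⁻¹ = φ (-t) := by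
  have h1 : b * ry φ b t * b⁻¹ = (b * b) * φ (1 * t) * (b * b)⁻¹ := by simp only [ry]; group
  rw [h1, T.bb, (T.ku.pow e), one_mul, inv_pow]
  congr 1
  have h3 : ν ^ e = (-1 : Fˣ) := Units.ext (by simpa using T.neg)
  rw [h3]; simp

theorem a_psi (t : F) : a * ψ t * a⁻¹ = rz ψ a t := by rw [rz, one_mul]

theorem b_phi (t : F) : b * φ t * b⁻¹ = ry φ b t := by rw [ry, one_mul]

end Base

/-- The torus. -/
def tor (h k : P) : Subgroup P := Subgroup.closure {h, k}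

/-- The abelian radical for the short simple root. -/
def Ma (φ ψ : F → P) (a b : P) : Subgroup P :=
  Subgroup.closure (Set.range ψ ∪ Set.range (ry φ b) ∪ Set.range (rz ψ a))

/-- The radical for the long simple root. -/
def Mb (φ ψ : F → P) (a b : P) : Subgroup P :=
  Subgroup.closure (Set.range φ ∪ Set.range (ry φ b) ∪ Set.range (rz ψ a))

/-- The positive unipotent subgroup. -/
def UU (φ ψ : F → P) (a b : P) : Subgroup P :=
  Subgroup.closure (Set.range φ ∪ Set.range ψ ∪ Set.range (ry φ b) ∪ Set.range (rz ψ a))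

theorem conj_closure_le {g : P} {S : Set P} {K : Subgroup P} (hS : ∀ x ∈ S, g * x * g⁻¹ ∈ K) :
    ∀ x ∈ Subgroup.closure S, g * x * g⁻¹ ∈ K := by
  intro x hx
  have : Subgroup.closure S ≤ K.comap (MulAut.conj g).toMonoidHom :=
    (Subgroup.closure_le _).2 fun y hy => hS y hy
  simpa using this hx

theorem inv_mem_normalizer {g : P} {K : Subgroup P} (h1 : ∀ x ∈ K, g * x * g⁻¹ ∈ K)
    (h2 : ∀ x ∈ K, g⁻¹ * x * g⁻¹⁻¹ ∈ K) : g ∈ Subgroup.normalizer (K : Set P) := by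
  rw [Subgroup.mem_normalizer_iff]
  refine fun x => ⟨h1 x, fun hx => ?_⟩
  have := h2 _ hx
  rwa [show g⁻¹ * (g * x * g⁻¹) * g⁻¹⁻¹ = x by group] at this

namespace Full

variable {φ ψ : F → P} {h k a b : P} {ν : Fˣ} {e : ℕ} (T : Full φ ψ h k a b ν e)

include T

theorem tor_act {τ : P} (hτ : τ ∈ tor h k) :
    (∃ r, Act τ φ r) ∧ (∃ r, Act τ ψ r) ∧ (∃ r, Act τ (ry φ b) r) ∧ (∃ r, Act τ (rz ψ a) r) := by
  induction hτ using Subgroup.closure_induction with
  | mem x hx =>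
    rcases hx with rfl | rfl
    · exact ⟨⟨_, T.hu⟩, ⟨_, T.hv⟩, ⟨_, T.hy⟩, ⟨_, T.hz⟩⟩
    · exact ⟨⟨_, T.ku⟩, ⟨_, T.kv⟩, ⟨_, T.ky⟩, ⟨_, T.kz⟩⟩
  | one => exact ⟨⟨_, Act.one⟩, ⟨_, Act.one⟩, ⟨_, Act.one⟩, ⟨_, Act.one⟩⟩
  | mul x y _ _ ihx ihy =>
    obtain ⟨⟨_, a1⟩, ⟨_, a2⟩, ⟨_, a3⟩, ⟨_, a4⟩⟩ := ihx
    obtain ⟨⟨_, b1⟩, ⟨_, b2⟩, ⟨_, b3⟩, ⟨_, b4⟩⟩ := ihy
    exact ⟨⟨_, a1.mul b1⟩, ⟨_, a2.mul b2⟩, ⟨_, a3.mul b3⟩, ⟨_, a4.mul b4⟩⟩
  | inv x _ ihx =>
    obtain ⟨⟨_, a1⟩, ⟨_, a2⟩, ⟨_, a3⟩, ⟨_, a4⟩⟩ := ihx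
    exact ⟨⟨_, a1.inv⟩, ⟨_, a2.inv⟩, ⟨_, a3.inv⟩, ⟨_, a4.inv⟩⟩

theorem a_tor {τ : P} (hτ : τ ∈ tor h k) : a * τ * a⁻¹ ∈ tor h k := by
  refine conj_closure_le ?_ τ hτ
  rintro x (rfl | rfl)
  · rw [T.ah]; exact inv_mem (Subgroup.subset_closure (by simp))
  · rw [T.ak]; exact mul_mem (Subgroup.subset_closure (by simp)) (Subgroup.subset_closure (by simp))

theorem b_tor {τ : P} (hτ : τ ∈ tor h k) : b * τ * b⁻¹ ∈ tor h k := by
  refine conj_closure_le ?_ τ hτ
  rintro x (rfl | rfl)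
  · rw [T.bh]
    exact mul_mem (Subgroup.subset_closure (by simp))
      (mul_mem (Subgroup.subset_closure (by simp)) (Subgroup.subset_closure (by simp)))
  · rw [T.bk]; exact inv_mem (Subgroup.subset_closure (by simp))

theorem ma_le : Ma φ ψ a b ≤ UU φ ψ a b :=
  Subgroup.closure_mono (by rintro x ((hx | hx) | hx) <;> simp [hx])

theorem mb_le : Mb φ ψ a b ≤ UU φ ψ a b :=
  Subgroup.closure_mono (by rintro x ((hx | hx) | hx) <;> simp [hx])

theorem a_ma {x : P} (hx : x ∈ Ma φ ψ a b) : a * x * a⁻¹ ∈ Ma φ ψ a b := by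
  refine conj_closure_le ?_ x hx
  rintro _ ((⟨t, rfl⟩ | ⟨t, rfl⟩) | ⟨t, rfl⟩)
  · rw [T.a_psi]; exact Subgroup.subset_closure (by simp)
  · rw [T.fixa]; exact Subgroup.subset_closure (by simp)
  · rw [T.a_rz]; exact Subgroup.subset_closure (by simp)

theorem b_mb {x : P} (hx : x ∈ Mb φ ψ a b) : b * x * b⁻¹ ∈ Mb φ ψ a b := by
  refine conj_closure_le ?_ x hx
  rintro _ ((⟨t, rfl⟩ | ⟨t, rfl⟩) | ⟨t, rfl⟩)
  · rw [T.b_phi]; exact Subgroup.subset_closure (by simp)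
  · rw [T.b_ry]; exact Subgroup.subset_closure (by simp)
  · rw [T.fixb]; exact Subgroup.subset_closure (by simp)

theorem phi_ma (s : F) {x : P} (hx : x ∈ Ma φ ψ a b) : φ s * x * (φ s)⁻¹ ∈ Ma φ ψ a b := by
  refine conj_closure_le ?_ x hx
  rintro _ ((⟨t, rfl⟩ | ⟨t, rfl⟩) | ⟨t, rfl⟩)
  · rw [show φ s * ψ t * (φ s)⁻¹ = ⁅φ s, ψ t⁆ * ψ t by rw [commutatorElement_def]; group, T.cuv]
    exact mul_mem (mul_mem (Subgroup.subset_closure (by simp)) (Subgroup.subset_closure (by simp)))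
      (Subgroup.subset_closure (by simp))
  · rw [show φ s * ry φ b t * (φ s)⁻¹ = ⁅φ s, ry φ b t⁆ * ry φ b t by
      rw [commutatorElement_def]; group, T.cuy]
    exact mul_mem (Subgroup.subset_closure (by simp)) (Subgroup.subset_closure (by simp))
  · rw [(T.cuz s t).eq, mul_inv_cancel_right]; exact Subgroup.subset_closure (by simp)

theorem psi_mb (s : F) {x : P} (hx : x ∈ Mb φ ψ a b) : ψ s * x * (ψ s)⁻¹ ∈ Mb φ ψ a b := by
  refine conj_closure_le ?_ x hx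
  rintro _ ((⟨t, rfl⟩ | ⟨t, rfl⟩) | ⟨t, rfl⟩)
  · rw [show ψ s * φ t * (ψ s)⁻¹ = ⁅φ t, ψ s⁆⁻¹ * φ t by rw [commutatorElement_def]; group, T.cuv]
    exact mul_mem (inv_mem (mul_mem (Subgroup.subset_closure (by simp))
      (Subgroup.subset_closure (by simp)))) (Subgroup.subset_closure (by simp))
  · rw [(T.cvy s t).eq, mul_inv_cancel_right]; exact Subgroup.subset_closure (by simp)
  · rw [(T.cvz s t).eq, mul_inv_cancel_right]; exact Subgroup.subset_closure (by simp)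

theorem phi_mul_ma {x : P} (hx : x ∈ UU φ ψ a b) :
    ∃ s, ∃ m ∈ Ma φ ψ a b, x = φ s * m := by
  induction hx using Subgroup.closure_induction with
  | mem x hx =>
    rcases hx with ((⟨t, rfl⟩ | ⟨t, rfl⟩) | ⟨t, rfl⟩) | ⟨t, rfl⟩
    · exact ⟨t, 1, one_mem _, by simp⟩
    · exact ⟨0, _, Subgroup.subset_closure (Or.inl (Or.inl ⟨t, rfl⟩)), by simp [T.zerou]⟩
    · exact ⟨0, _, Subgroup.subset_closure (Or.inl (Or.inr ⟨t, rfl⟩)), by simp [T.zerou]⟩
    · exact ⟨0, _, Subgroup.subset_closure (Or.inr ⟨t, rfl⟩), by simp [T.zerou]⟩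
  | one => exact ⟨0, 1, one_mem _, by simp [T.zerou]⟩
  | mul x y _ _ ihx ihy =>
    obtain ⟨s, m, hm, rfl⟩ := ihx
    obtain ⟨t, n, hn, rfl⟩ := ihy
    refine ⟨s + t, φ (-t) * m * (φ (-t))⁻¹ * n, mul_mem (T.phi_ma _ hm) hn, ?_⟩
    rw [T.addu, T.negu]; group
  | inv x _ ihx =>
    obtain ⟨s, m, hm, rfl⟩ := ihx
    refine ⟨-s, φ s * m⁻¹ * (φ s)⁻¹, T.phi_ma _ (inv_mem hm), ?_⟩
    rw [T.negu]; group

theorem psi_mul_mb {x : P} (hx : x ∈ UU φ ψ a b) :
    ∃ s, ∃ m ∈ Mb φ ψ a b, x = ψ s * m := by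
  induction hx using Subgroup.closure_induction with
  | mem x hx =>
    rcases hx with ((⟨t, rfl⟩ | ⟨t, rfl⟩) | ⟨t, rfl⟩) | ⟨t, rfl⟩
    · exact ⟨0, _, Subgroup.subset_closure (Or.inl (Or.inl ⟨t, rfl⟩)), by simp [T.zerov]⟩
    · exact ⟨t, 1, one_mem _, by simp⟩
    · exact ⟨0, _, Subgroup.subset_closure (Or.inl (Or.inr ⟨t, rfl⟩)), by simp [T.zerov]⟩
    · exact ⟨0, _, Subgroup.subset_closure (Or.inr ⟨t, rfl⟩), by simp [T.zerov]⟩
  | one => exact ⟨0, 1, one_mem _, by simp [T.zerov]⟩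
  | mul x y _ _ ihx ihy =>
    obtain ⟨s, m, hm, rfl⟩ := ihx
    obtain ⟨t, n, hn, rfl⟩ := ihy
    refine ⟨s + t, ψ (-t) * m * (ψ (-t))⁻¹ * n, mul_mem (T.psi_mb _ hm) hn, ?_⟩
    rw [T.addv, T.negv]; group
  | inv x _ ihx =>
    obtain ⟨s, m, hm, rfl⟩ := ihx
    refine ⟨-s, ψ s * m⁻¹ * (ψ s)⁻¹, T.psi_mb _ (inv_mem hm), ?_⟩
    rw [T.negv]; group

end Full

/-- The Weyl element of a letter: `false` for `a`, `true` for `b`. -/
def gl (a b : P) (s : Bool) : P := if s then b else a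

/-- The root group of a letter. -/
def Xl (φ ψ : F → P) (s : Bool) : F → P := if s then ψ else φ

/-- The radical of a letter. -/
def Ml (φ ψ : F → P) (a b : P) (s : Bool) : Subgroup P :=
  if s then Mb φ ψ a b else Ma φ ψ a b

/-- The word of a list, the head being the last letter. -/
def word (a b : P) : List Bool → P
  | [] => 1
  | s :: l => word a b l * gl a b s

/-- The cells. -/
def cell (φ ψ : F → P) (h k a b : P) : List Bool → Set P
  | [] => {x | ∃ u ∈ UU φ ψ a b, ∃ τ ∈ tor h k, x = u * τ}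
  | s :: l => {x | ∃ c ∈ cell φ ψ h k a b l, ∃ t : F, x = c * gl a b s * Xl φ ψ s t}

/-- The rank one relation at `t`. -/
def Rep (h k g : P) (X : F → P) (t : F) : Prop :=
  ∃ d, ∃ τ ∈ tor h k, ∃ d', g * X t * g = X d * τ * g * X d'

namespace Full

variable {φ ψ : F → P} {h k a b : P} {ν : Fˣ} {e : ℕ} (T : Full φ ψ h k a b ν e)

include T

theorem gl_tor (s : Bool) {τ : P} (hτ : τ ∈ tor h k) :
    gl a b s * τ * (gl a b s)⁻¹ ∈ tor h k := by
  cases s
  · exact T.a_tor hτ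
  · exact T.b_tor hτ

theorem gl_sq (s : Bool) : gl a b s * gl a b s ∈ tor h k := by
  cases s
  · show a * a ∈ _
    rw [T.aa]; exact pow_mem (Subgroup.subset_closure (by simp)) _
  · show b * b ∈ _
    rw [T.bb]; exact pow_mem (Subgroup.subset_closure (by simp)) _

theorem xl_mem (s : Bool) (t : F) : Xl φ ψ s t ∈ UU φ ψ a b := by
  cases s <;> exact Subgroup.subset_closure (by simp [Xl])

theorem xl_zero (s : Bool) : Xl φ ψ s 0 = 1 := by
  cases s
  · exact T.zerou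
  · exact T.zerov

theorem split (s : Bool) {x : P} (hx : x ∈ UU φ ψ a b) :
    ∃ t, ∃ m ∈ Ml φ ψ a b s, x = Xl φ ψ s t * m := by
  cases s
  · exact T.phi_mul_ma hx
  · exact T.psi_mul_mb hx

theorem split' (s : Bool) {x : P} (hx : x ∈ UU φ ψ a b) :
    ∃ t, ∃ m ∈ Ml φ ψ a b s, x = m * Xl φ ψ s t := by
  obtain ⟨t, m, hm, hxe⟩ := T.split s (inv_mem hx)
  refine ⟨-t, m⁻¹, inv_mem hm, ?_⟩
  rw [← inv_inv x, hxe, mul_inv_rev]
  cases s
  · show _ = _ * φ (-t)
    rw [T.negu]; rfl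
  · show _ = _ * ψ (-t)
    rw [T.negv]; rfl

theorem gl_ml (s : Bool) {m : P} (hm : m ∈ Ml φ ψ a b s) :
    gl a b s * m * (gl a b s)⁻¹ ∈ UU φ ψ a b := by
  cases s
  · exact T.ma_le (T.a_ma hm)
  · exact T.mb_le (T.b_mb hm)

theorem tor_ma {τ : P} (hτ : τ ∈ tor h k) {m : P} (hm : m ∈ Ma φ ψ a b) :
    τ * m * τ⁻¹ ∈ Ma φ ψ a b := by
  obtain ⟨-, ⟨r, hr⟩, ⟨r', hr'⟩, ⟨r'', hr''⟩⟩ := T.tor_act hτ
  refine conj_closure_le ?_ m hm
  rintro _ ((⟨t, rfl⟩ | ⟨t, rfl⟩) | ⟨t, rfl⟩)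
  · rw [hr]; exact Subgroup.subset_closure (by simp)
  · rw [hr']; exact Subgroup.subset_closure (by simp)
  · rw [hr'']; exact Subgroup.subset_closure (by simp)

theorem tor_mb {τ : P} (hτ : τ ∈ tor h k) {m : P} (hm : m ∈ Mb φ ψ a b) :
    τ * m * τ⁻¹ ∈ Mb φ ψ a b := by
  obtain ⟨⟨r, hr⟩, -, ⟨r', hr'⟩, ⟨r'', hr''⟩⟩ := T.tor_act hτ
  refine conj_closure_le ?_ m hm
  rintro _ ((⟨t, rfl⟩ | ⟨t, rfl⟩) | ⟨t, rfl⟩)
  · rw [hr]; exact Subgroup.subset_closure (by simp)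
  · rw [hr']; exact Subgroup.subset_closure (by simp)
  · rw [hr'']; exact Subgroup.subset_closure (by simp)

theorem gl_inv_ml (s : Bool) {m : P} (hm : m ∈ Ml φ ψ a b s) :
    (gl a b s)⁻¹ * m * gl a b s ∈ UU φ ψ a b := by
  cases s
  · show a⁻¹ * m * a ∈ _
    have h1 : a⁻¹ * m * a = (a * a)⁻¹ * (a * m * a⁻¹) * ((a * a)⁻¹)⁻¹ := by group
    rw [h1]
    exact T.ma_le (T.tor_ma (inv_mem (T.gl_sq false)) (T.a_ma hm))
  · show b⁻¹ * m * b ∈ _
    have h1 : b⁻¹ * m * b = (b * b)⁻¹ * (b * m * b⁻¹) * ((b * b)⁻¹)⁻¹ := by group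
    rw [h1]
    exact T.mb_le (T.tor_mb (inv_mem (T.gl_sq true)) (T.b_mb hm))

theorem tor_uu {τ : P} (hτ : τ ∈ tor h k) {x : P} (hx : x ∈ UU φ ψ a b) :
    τ * x * τ⁻¹ ∈ UU φ ψ a b := by
  obtain ⟨⟨r, hr⟩, -⟩ := T.tor_act hτ
  obtain ⟨s, m, hm, rfl⟩ := T.phi_mul_ma hx
  rw [show τ * (φ s * m) * τ⁻¹ = (τ * φ s * τ⁻¹) * (τ * m * τ⁻¹) by group, hr]
  exact mul_mem (Subgroup.subset_closure (by simp)) (T.ma_le (T.tor_ma hτ hm))

theorem mul_uu : ∀ (l : List Bool) {c u : P}, c ∈ cell φ ψ h k a b l → u ∈ UU φ ψ a b →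
    c * u ∈ cell φ ψ h k a b l
  | [], c, u, ⟨v, hv, τ, hτ, hc⟩, hu => by
    subst hc
    exact ⟨v * (τ * u * τ⁻¹), mul_mem hv (T.tor_uu hτ hu), τ, hτ, by group⟩
  | s :: l, c, u, ⟨c', hc', t, hc⟩, hu => by
    subst hc
    obtain ⟨t', m, hm, he⟩ := T.split' s (mul_mem (T.xl_mem s t) hu)
    refine ⟨c' * (gl a b s * m * (gl a b s)⁻¹), mul_uu l hc' (T.gl_ml s hm), t', ?_⟩
    rw [mul_assoc _ (Xl φ ψ s t) u, he]; group

theorem mul_tor : ∀ (l : List Bool) {c τ : P}, c ∈ cell φ ψ h k a b l → τ ∈ tor h k →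
    c * τ ∈ cell φ ψ h k a b l
  | [], c, τ, ⟨v, hv, τ', hτ', hc⟩, hτ => by
    subst hc
    exact ⟨v, hv, τ' * τ, mul_mem hτ' hτ, by group⟩
  | s :: l, c, τ, ⟨c', hc', t, hc⟩, hτ => by
    subst hc
    obtain ⟨⟨r, hr⟩, ⟨r', hr'⟩, -⟩ := T.tor_act (inv_mem hτ)
    obtain ⟨t', ht'⟩ : ∃ t', τ⁻¹ * Xl φ ψ s t * τ⁻¹⁻¹ = Xl φ ψ s t' := by
      cases s
      · exact ⟨_, hr t⟩
      · exact ⟨_, hr' t⟩
    refine ⟨c' * (gl a b s * τ * (gl a b s)⁻¹), mul_tor l hc' (T.gl_tor s hτ), t', ?_⟩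
    rw [← ht']; group

theorem extend (s : Bool) (l : List Bool) {c : P} (hc : c ∈ cell φ ψ h k a b l) :
    c * gl a b s ∈ cell φ ψ h k a b (s :: l) :=
  ⟨c, hc, 0, by rw [T.xl_zero, mul_one]⟩

theorem back (hRa : ∀ t, t ≠ 0 → Rep h k a φ t) (hRb : ∀ t, t ≠ 0 → Rep h k b ψ t) (s : Bool)
    (l : List Bool) {c : P} (hc : c ∈ cell φ ψ h k a b (s :: l)) :
    c * gl a b s ∈ cell φ ψ h k a b l ∪ cell φ ψ h k a b (s :: l) := by
  obtain ⟨c', hc', t, rfl⟩ := hc
  rcases eq_or_ne t 0 with rfl | ht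
  · left
    rw [T.xl_zero, mul_one, mul_assoc]
    exact T.mul_tor l hc' (T.gl_sq s)
  · right
    obtain ⟨d, τ, hτ, d', hd⟩ : Rep h k (gl a b s) (Xl φ ψ s) t := by
      cases s
      · exact hRa t ht
      · exact hRb t ht
    refine ⟨c' * Xl φ ψ s d * τ, T.mul_tor l (T.mul_uu l hc' (T.xl_mem s d)) hτ, d', ?_⟩
    rw [mul_assoc (c' * gl a b s), mul_assoc c', ← mul_assoc (gl a b s), hd]
    group

theorem cell_eq : ∀ (l : List Bool),
    (∀ s l', (s :: l') <:+ l → ∀ t, word a b l' * Xl φ ψ s t * (word a b l')⁻¹ ∈ UU φ ψ a b) →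
    ∀ c, c ∈ cell φ ψ h k a b l ↔
      ∃ β ∈ cell φ ψ h k a b [], ∃ u ∈ UU φ ψ a b, c = β * word a b l * u
  | [], _, c => by
    refine ⟨fun hc => ⟨c, hc, 1, one_mem _, by simp [word]⟩, ?_⟩
    rintro ⟨β, hβ, u, hu, rfl⟩
    simpa [word] using T.mul_uu [] hβ hu
  | s :: l, hpre, c => by
    have ih := cell_eq l fun s' l' hs => hpre s' l' (hs.trans (List.suffix_cons s l))
    constructor
    · rintro ⟨c', hc', t, rfl⟩
      obtain ⟨β, hβ, u, hu, rfl⟩ := (ih c').1 hc'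
      obtain ⟨t', m, hm, rfl⟩ := T.split s hu
      refine ⟨β * (word a b l * Xl φ ψ s t' * (word a b l)⁻¹),
        T.mul_uu [] hβ (hpre s l List.suffix_rfl t'),
        (gl a b s)⁻¹ * m * gl a b s * Xl φ ψ s t, mul_mem (T.gl_inv_ml s hm) (T.xl_mem s t), ?_⟩
      simp only [word]; group
    · rintro ⟨β, hβ, u, hu, rfl⟩
      refine T.mul_uu _ ?_ hu
      have h1 : β * word a b l ∈ cell φ ψ h k a b l :=
        (ih _).2 ⟨β, hβ, 1, one_mem _, by simp⟩
      simpa [word, mul_assoc] using T.extend s l h1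

theorem braid_cells :
    cell φ ψ h k a b [true, false, true, false] = cell φ ψ h k a b [false, true, false, true] := by
  have y_mem : ∀ t, ry φ b t ∈ UU φ ψ a b := fun t => Subgroup.subset_closure (by simp)
  have z_mem : ∀ t, rz ψ a t ∈ UU φ ψ a b := fun t => Subgroup.subset_closure (by simp)
  have az : ∀ t, a * ψ t * a⁻¹ = rz ψ a t := T.a_psi
  have by' : ∀ t, b * φ t * b⁻¹ = ry φ b t := T.b_phi
  have comp : ∀ g g' x : P, g * g' * x * (g * g')⁻¹ = g * (g' * x * g'⁻¹) * g⁻¹ := fun _ _ _ => by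
    group
  have h1 : ∀ s l', (s :: l') <:+ [true, false, true, false] → ∀ t,
      word a b l' * Xl φ ψ s t * (word a b l')⁻¹ ∈ UU φ ψ a b := by
    intro s l' hs t
    simp only [List.suffix_cons_iff, List.cons.injEq, List.suffix_nil, reduceCtorEq, or_false] at hs
    rcases hs with ⟨rfl, rfl⟩ | ⟨rfl, rfl⟩ | ⟨rfl, rfl⟩ | ⟨rfl, rfl⟩
    · simp only [word, gl, Xl, if_true, Bool.false_eq_true, if_false, one_mul]
      rw [comp, az, comp, T.fixb, T.a_rz]
      exact Subgroup.subset_closure (by simp)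
    · simp only [word, gl, Xl, if_true, Bool.false_eq_true, if_false, one_mul]
      rw [comp, by', T.fixa]; exact y_mem _
    · simp only [word, gl, Xl, if_true, Bool.false_eq_true, if_false, one_mul]
      rw [az]; exact z_mem _
    · simp [word, Xl]; exact Subgroup.subset_closure (by simp)
  have h2 : ∀ s l', (s :: l') <:+ [false, true, false, true] → ∀ t,
      word a b l' * Xl φ ψ s t * (word a b l')⁻¹ ∈ UU φ ψ a b := by
    intro s l' hs t
    simp only [List.suffix_cons_iff, List.cons.injEq, List.suffix_nil, reduceCtorEq, or_false] at hs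
    rcases hs with ⟨rfl, rfl⟩ | ⟨rfl, rfl⟩ | ⟨rfl, rfl⟩ | ⟨rfl, rfl⟩
    · simp only [word, gl, Xl, if_true, Bool.false_eq_true, if_false, one_mul]
      rw [comp, by', comp, T.fixa, T.b_ry]
      exact Subgroup.subset_closure (by simp)
    · simp only [word, gl, Xl, if_true, Bool.false_eq_true, if_false, one_mul]
      rw [comp, az, T.fixb]; exact z_mem _
    · simp only [word, gl, Xl, if_true, Bool.false_eq_true, if_false, one_mul]
      rw [by']; exact y_mem _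
    · simp [word, Xl]; exact Subgroup.subset_closure (by simp)
  have hw : word a b [true, false, true, false] = word a b [false, true, false, true] := by
    simp only [word, gl, if_true, Bool.false_eq_true, if_false, one_mul]
    calc a * b * a * b = a * b * (a * b) := by group
      _ = b * a * (b * a) := T.braid
      _ = b * a * b * a := by group
  ext c
  rw [T.cell_eq _ h1 c, T.cell_eq _ h2 c, hw]

theorem exists_cell (hRa : ∀ t, t ≠ 0 → Rep h k a φ t) (hRb : ∀ t, t ≠ 0 → Rep h k b ψ t)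
    (hgen : Subgroup.closure ({φ 1, ψ 1, h, k, a, b} : Set P) = ⊤) (g : P) :
    ∃ l ∈ [[], [false], [true], [true, false], [false, true], [false, true, false],
      [true, false, true], [true, false, true, false]], g ∈ cell φ ψ h k a b l := by
  set L : List (List Bool) := [[], [false], [true], [true, false], [false, true],
    [false, true, false], [true, false, true], [true, false, true, false]]
  let S : Set P := {g | ∃ l ∈ L, g ∈ cell φ ψ h k a b l}
  have h4 := T.braid_cells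
  have hmul : ∀ g ∈ S, ∀ s, g * gl a b s ∈ S := by
    rintro g ⟨l, hl, hg⟩ s
    have ext' : (s :: l) ∈ L → g * gl a b s ∈ S := fun hm => ⟨_, hm, T.extend s l hg⟩
    have bk : ∀ l', cell φ ψ h k a b l = cell φ ψ h k a b (s :: l') → l' ∈ L →
        g * gl a b s ∈ S := by
      intro l' heq hm
      rcases T.back hRa hRb s l' (heq ▸ hg) with h' | h'
      · exact ⟨l', hm, h'⟩
      · exact ⟨l, hl, heq ▸ h'⟩
    simp only [L, List.mem_cons, List.not_mem_nil, or_false] at hl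
    rcases hl with rfl | rfl | rfl | rfl | rfl | rfl | rfl | rfl <;> cases s
    all_goals first
      | (apply ext'; simp [L]; done)
      | (refine bk _ rfl ?_; simp [L]; done)
      | (refine bk _ h4 ?_; simp [L]; done)
      | exact ⟨[true, false, true, false], by simp [L], h4 ▸ T.extend _ _ hg⟩
  have hS1 : (1 : P) ∈ S := ⟨[], by simp [L], 1, one_mem _, 1, one_mem _, by simp⟩
  have hUU : ∀ g ∈ S, ∀ u ∈ UU φ ψ a b, g * u ∈ S := by
    rintro g ⟨l, hl, hg⟩ u hu; exact ⟨l, hl, T.mul_uu l hg hu⟩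
  have hT : ∀ g ∈ S, ∀ τ ∈ tor h k, g * τ ∈ S := by
    rintro g ⟨l, hl, hg⟩ τ hτ; exact ⟨l, hl, T.mul_tor l hg hτ⟩
  have hinv : ∀ g ∈ S, ∀ s, g * (gl a b s)⁻¹ ∈ S := by
    intro g hg s
    have : g * (gl a b s)⁻¹ = g * (gl a b s * gl a b s)⁻¹ * gl a b s := by group
    rw [this]
    exact hmul _ (hT g hg _ (inv_mem (T.gl_sq s))) s
  have hu1 : φ 1 ∈ UU φ ψ a b := Subgroup.subset_closure (by simp)
  have hv1 : ψ 1 ∈ UU φ ψ a b := Subgroup.subset_closure (by simp)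
  have hh1 : h ∈ tor h k := Subgroup.subset_closure (by simp)
  have hk1 : k ∈ tor h k := Subgroup.subset_closure (by simp)
  have hg : g ∈ Subgroup.closure ({φ 1, ψ 1, h, k, a, b} : Set P) := by rw [hgen]; trivial
  show g ∈ S
  induction hg using Subgroup.closure_induction_right with
  | one => exact hS1
  | mul_right x _ y hy ih =>
    rcases hy with rfl | rfl | rfl | rfl | rfl | rfl
    · exact hUU x ih _ hu1
    · exact hUU x ih _ hv1
    · exact hT x ih _ hh1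
    · exact hT x ih _ hk1
    · exact hmul x ih false
    · exact hmul x ih true
  | mul_inv_cancel x _ y hy ih =>
    rcases hy with rfl | rfl | rfl | rfl | rfl | rfl
    · exact hUU x ih _ (inv_mem hu1)
    · exact hUU x ih _ (inv_mem hv1)
    · exact hT x ih _ (inv_mem hh1)
    · exact hT x ih _ (inv_mem hk1)
    · exact hinv x ih false
    · exact hinv x ih true

theorem uu_bound [Fintype F] : (UU φ ψ a b : Set P).Finite ∧
    Set.ncard (UU φ ψ a b : Set P) ≤ Fintype.card F ^ 4 := by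
  let Θ : F × F × F × F → P := fun x => φ x.1 * (ψ x.2.1 * ry φ b x.2.2.1 * rz ψ a x.2.2.2)
  have hMa : ∀ m ∈ Ma φ ψ a b, ∃ x y z, m = ψ x * ry φ b y * rz ψ a z := by
    intro m hm
    induction hm using Subgroup.closure_induction with
    | mem x hx =>
      rcases hx with (⟨t, rfl⟩ | ⟨t, rfl⟩) | ⟨t, rfl⟩
      · exact ⟨t, 0, 0, by simp [T.zeroy, T.zeroz]⟩
      · exact ⟨0, t, 0, by simp [T.zerov, T.zeroz]⟩
      · exact ⟨0, 0, t, by simp [T.zerov, T.zeroy]⟩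
    | one => exact ⟨0, 0, 0, by simp [T.zerov, T.zeroy, T.zeroz]⟩
    | mul x y _ _ ihx ihy =>
      obtain ⟨p, q, r, rfl⟩ := ihx
      obtain ⟨p', q', r', rfl⟩ := ihy
      refine ⟨p + p', q + q', r + r', ?_⟩
      have c1 : Commute (ry φ b q * rz ψ a r) (ψ p') :=
        ((T.cvy p' q).symm.mul_left (T.cvz p' r).symm)
      have c2 : Commute (rz ψ a r) (ry φ b q') := (T.cyz q' r).symm
      rw [T.addv, T.addy, T.addz]
      calc ψ p * ry φ b q * rz ψ a r * (ψ p' * ry φ b q' * rz ψ a r')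
          = ψ p * ((ry φ b q * rz ψ a r) * ψ p') * ry φ b q' * rz ψ a r' := by group
        _ = ψ p * ψ p' * ry φ b q * (rz ψ a r * ry φ b q') * rz ψ a r' := by rw [c1.eq]; group
        _ = _ := by rw [c2.eq]; group
    | inv x _ ihx =>
      obtain ⟨p, q, r, rfl⟩ := ihx
      refine ⟨-p, -q, -r, ?_⟩
      rw [mul_inv_rev, mul_inv_rev, ← T.negv, ← T.negy, ← T.negz]
      rw [(T.cvy (-p) (-q)).eq, mul_assoc, (T.cvz (-p) (-r)).eq]
      rw [← mul_assoc, ← mul_assoc, (T.cyz (-q) (-r)).eq]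
  have hsub : (UU φ ψ a b : Set P) ⊆ Θ '' Set.univ := by
    intro x hx
    obtain ⟨s, m, hm, rfl⟩ := T.phi_mul_ma hx
    obtain ⟨p, q, r, rfl⟩ := hMa m hm
    exact ⟨(s, p, q, r), trivial, rfl⟩
  have hfin : (Θ '' Set.univ).Finite := Set.finite_univ.image _
  refine ⟨hfin.subset hsub, (Set.ncard_le_ncard hsub hfin).trans
    ((Set.ncard_image_le Set.finite_univ).trans ?_)⟩
  rw [Set.ncard_univ, Nat.card_eq_fintype_card, Fintype.card_prod, Fintype.card_prod,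
    Fintype.card_prod]
  exact le_of_eq (by ring)

theorem card_le [Fintype F] (hRa : ∀ t, t ≠ 0 → Rep h k a φ t) (hRb : ∀ t, t ≠ 0 → Rep h k b ψ t)
    (hgen : Subgroup.closure ({φ 1, ψ 1, h, k, a, b} : Set P) = ⊤) {N₁ N₂ : ℕ} (hN₁ : 0 < N₁)
    (hN₂ : 0 < N₂) (hh : h ^ N₁ = 1) (hk : k ^ N₂ = 1) :
    Finite P ∧ Nat.card P ≤ Fintype.card F ^ 4 * (N₁ * N₂) *
      ((Fintype.card F + 1) ^ 2 * (Fintype.card F ^ 2 + 1)) := by
  set q := Fintype.card F with hq
  obtain ⟨hUf, hUc⟩ := T.uu_bound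
  let κ : Fin N₁ × Fin N₂ → P := fun x => h ^ (x.1 : ℕ) * k ^ (x.2 : ℕ)
  have hkap : ∀ τ ∈ tor h k, τ ∈ κ '' Set.univ := by
    have hred : ∀ (g : P) (N : ℕ), 0 < N → g ^ N = 1 → ∀ i : ℤ, ∃ j : Fin N, g ^ i = g ^ (j : ℕ) := by
      intro g N hN hg i
      refine ⟨⟨(i % N).toNat, ?_⟩, ?_⟩
      · have := Int.emod_lt_of_pos i (by exact_mod_cast hN : (0 : ℤ) < N)
        omega
      · have h0 := Int.emod_nonneg i (by exact_mod_cast hN.ne' : (N : ℤ) ≠ 0)
        rw [← zpow_natCast, Fin.val_mk, Int.toNat_of_nonneg h0]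
        conv_lhs => rw [← Int.emod_add_mul_ediv i N, zpow_add, zpow_mul, zpow_natCast, hg, one_zpow,
          mul_one]
    intro τ hτ
    obtain ⟨i, j, rfl⟩ : ∃ i j : ℤ, τ = h ^ i * k ^ j := by
      induction hτ using Subgroup.closure_induction with
      | mem x hx =>
        rcases hx with rfl | rfl
        · exact ⟨1, 0, by simp⟩
        · exact ⟨0, 1, by simp⟩
      | one => exact ⟨0, 0, by simp⟩
      | mul x y _ _ ihx ihy =>
        obtain ⟨i, j, rfl⟩ := ihx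
        obtain ⟨i', j', rfl⟩ := ihy
        refine ⟨i + i', j + j', ?_⟩
        rw [zpow_add, zpow_add]
        have c : Commute (k ^ j) (h ^ i') := T.hk.symm.zpow_zpow j i'
        calc h ^ i * k ^ j * (h ^ i' * k ^ j') = h ^ i * (k ^ j * h ^ i') * k ^ j' := by group
          _ = _ := by rw [c.eq]; group
      | inv x _ ihx =>
        obtain ⟨i, j, rfl⟩ := ihx
        exact ⟨-i, -j, by rw [mul_inv_rev, zpow_neg, zpow_neg,
          ((T.hk.zpow_zpow i j).inv_inv.symm).eq]⟩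
    obtain ⟨i', hi⟩ := hred h N₁ hN₁ hh i
    obtain ⟨j', hj⟩ := hred k N₂ hN₂ hk j
    exact ⟨(i', j'), trivial, by simp [κ, hi, hj]⟩
  have hC0 : (cell φ ψ h k a b []).Finite ∧
      (cell φ ψ h k a b []).ncard ≤ q ^ 4 * (N₁ * N₂) := by
    have hsub : cell φ ψ h k a b [] ⊆
        (fun x : P × P => x.1 * x.2) '' ((UU φ ψ a b : Set P) ×ˢ (κ '' Set.univ)) := by
      rintro x ⟨u, hu, τ, hτ, rfl⟩
      exact ⟨(u, τ), ⟨hu, hkap τ hτ⟩, rfl⟩
    have hf := hUf.prod (Set.finite_univ.image κ)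
    refine ⟨(hf.image _).subset hsub, (Set.ncard_le_ncard hsub (hf.image _)).trans
      ((Set.ncard_image_le hf).trans ?_)⟩
    rw [Set.ncard_prod]
    refine Nat.mul_le_mul hUc ((Set.ncard_image_le Set.finite_univ).trans ?_)
    rw [Set.ncard_univ, Nat.card_eq_fintype_card, Fintype.card_prod, Fintype.card_fin,
      Fintype.card_fin]
  have hC : ∀ l : List Bool, (cell φ ψ h k a b l).Finite ∧
      (cell φ ψ h k a b l).ncard ≤ q ^ 4 * (N₁ * N₂) * q ^ l.length := by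
    intro l
    induction l with
    | nil => simpa using hC0
    | cons s l ih =>
      have hsub : cell φ ψ h k a b (s :: l) ⊆
          (fun x : P × F => x.1 * gl a b s * Xl φ ψ s x.2) ''
            (cell φ ψ h k a b l ×ˢ (Set.univ : Set F)) := by
        rintro x ⟨c, hc, t, rfl⟩
        exact ⟨(c, t), ⟨hc, trivial⟩, rfl⟩
      have hf := ih.1.prod (Set.finite_univ : (Set.univ : Set F).Finite)
      refine ⟨(hf.image _).subset hsub, (Set.ncard_le_ncard hsub (hf.image _)).trans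
        ((Set.ncard_image_le hf).trans ?_)⟩
      rw [Set.ncard_prod, Set.ncard_univ, Nat.card_eq_fintype_card, List.length_cons,
        pow_succ q l.length, ← hq, ← mul_assoc]
      exact Nat.mul_le_mul_right _ ih.2
  set C := fun l => cell φ ψ h k a b l
  have huniv : (Set.univ : Set P) = C [] ∪ C [false] ∪ C [true] ∪ C [true, false] ∪
      C [false, true] ∪ C [false, true, false] ∪ C [true, false, true] ∪
      C [true, false, true, false] := by
    ext g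
    simp only [Set.mem_univ, true_iff]
    obtain ⟨l, hl, hg⟩ := T.exists_cell hRa hRb hgen g
    simp only [List.mem_cons, List.not_mem_nil, or_false] at hl
    rcases hl with rfl | rfl | rfl | rfl | rfl | rfl | rfl | rfl <;> simp [C, hg]
  have hfinU : (Set.univ : Set P).Finite := by
    rw [huniv]
    exact ((((((((hC _).1).union (hC _).1).union (hC _).1).union (hC _).1).union (hC _).1).union
      (hC _).1).union (hC _).1).union (hC _).1
  refine ⟨Set.finite_univ_iff.1 hfinU, ?_⟩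
  rw [← Set.ncard_univ, huniv]
  set D := q ^ 4 * (N₁ * N₂)
  have e0 : (C []).ncard ≤ D := by simpa using (hC []).2
  have e1 : (C [false]).ncard ≤ D * q := by simpa using (hC [false]).2
  have e2 : (C [true]).ncard ≤ D * q := by simpa using (hC [true]).2
  have e3 : (C [true, false]).ncard ≤ D * q ^ 2 := (hC _).2
  have e4 : (C [false, true]).ncard ≤ D * q ^ 2 := (hC _).2
  have e5 : (C [false, true, false]).ncard ≤ D * q ^ 3 := (hC _).2
  have e6 : (C [true, false, true]).ncard ≤ D * q ^ 3 := (hC _).2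
  have e7 : (C [true, false, true, false]).ncard ≤ D * q ^ 4 := (hC _).2
  have u1 := Set.ncard_union_le (C []) (C [false])
  have u2 := Set.ncard_union_le (C [] ∪ C [false]) (C [true])
  have u3 := Set.ncard_union_le (C [] ∪ C [false] ∪ C [true]) (C [true, false])
  have u4 := Set.ncard_union_le (C [] ∪ C [false] ∪ C [true] ∪ C [true, false]) (C [false, true])
  have u5 := Set.ncard_union_le
    (C [] ∪ C [false] ∪ C [true] ∪ C [true, false] ∪ C [false, true]) (C [false, true, false])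
  have u6 := Set.ncard_union_le
    (C [] ∪ C [false] ∪ C [true] ∪ C [true, false] ∪ C [false, true] ∪ C [false, true, false])
    (C [true, false, true])
  have u7 := Set.ncard_union_le
    (C [] ∪ C [false] ∪ C [true] ∪ C [true, false] ∪ C [false, true] ∪ C [false, true, false] ∪
      C [true, false, true]) (C [true, false, true, false])
  have key : D + D * q + D * q + D * q ^ 2 + D * q ^ 2 + D * q ^ 3 + D * q ^ 3 + D * q ^ 4 =
      D * ((q + 1) ^ 2 * (q ^ 2 + 1)) := by ring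
  omega

end Full

end Cfsg.Agent.SpFourPres
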