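import Cfsg.Agent.SpFourPres.Seeds

/-!
# Short presentations of Sp4: the relators
-/

set_option autoImplicit false

namespace Cfsg.Agent.SpFourPres

open Polynomial Cfsg.Agent.SL3Pres Cfsg.Agent.SL2Pres
open scoped commutatorElement

variable {p : ℕ} [Fact p.Prime] {F : Type*} [Field F] [Algebra (ZMod p) F]

/-- The step data of a root group on which `k` acts by `r`. -/
structure Step (p : ℕ) [Fact p.Prime] {F : Type*} [Field F] [Algebra (ZMod p) F] (r : Fˣ) (i : ℕ)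
    (st : Option ℕ) : Prop where
  surj : Function.Surjective ⇑(Polynomial.aeval ((r : F) ^ i) : (ZMod p)[X] →ₐ[ZMod p] F)
  step : ∀ m, st = some m → 1 + (r : F) ^ i = (r : F) ^ m
  deg : st = none → (minpoly (ZMod p) ((r : F) ^ i)).natDegree ≤ 2

/-- The relators of one root group. -/
noncomputable def rootRels {G : Type*} [Group G] (p i : ℕ) (st : Option ℕ) (f g : (ZMod p)[X])
    (k u : G) : List G :=
  [u ^ p, pword (k ^ i) u f, k * u * k⁻¹ * (pword (k ^ i) u g)⁻¹, ⁅u, k ^ i * u * (k ^ i)⁻¹⁆,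
    st.elim 1 fun m => k ^ m * u * (k ^ m)⁻¹ * (u * (k ^ i * u * (k ^ i)⁻¹))⁻¹]

theorem map_rootRels {G H : Type*} [Group G] [Group H] (f' : G →* H) (i : ℕ) (st : Option ℕ)
    (f g : (ZMod p)[X]) (k u : G) :
    (rootRels p i st f g k u).map f' = rootRels p i st f g (f' k) (f' u) := by
  cases st <;> simp [rootRels, commutatorElement_def, map_pword]

theorem exists_root [Fintype F] {P : Type*} [Group P] {r : Fˣ} {i : ℕ} {st : Option ℕ}
    (hS : Step p r i st) (g : (ZMod p)[X]) (hg : aeval ((r : F) ^ i) g = (r : F)) {k u : P}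
    (hr : ∀ z ∈ rootRels p i st (minpoly (ZMod p) ((r : F) ^ i)) g k u, z = 1) :
    ∃ φ : F → P, φ 1 = u ∧ (∀ a b, φ (a + b) = φ a * φ b) ∧ Act k φ r := by
  simp only [rootRels, List.forall_mem_cons, List.not_mem_nil, IsEmpty.forall_iff, implies_true,
    and_true] at hr
  obtain ⟨hp, hf, hku, hc, hst⟩ := hr
  rw [commutatorElement_eq_one_iff_commute] at hc
  have h1 : Commute u (cj (k ^ i) u 1) := by simpa [cj] using hc
  have hint : IsIntegral (ZMod p) ((r : F) ^ i) := Algebra.IsIntegral.isIntegral _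
  have hall : ∀ m n, Commute (cj (k ^ i) u m) (cj (k ^ i) u n) := by
    cases hm : st with
    | none =>
      exact fun m n => commute_all_of_pair hp h1 _ (minpoly.monic hint) (hS.deg hm)
        (minpoly.natDegree_pos hint) hf m n
    | some m' =>
      subst hm
      refine commute_cj_all _ _ (commute_cj_of_step (k ^ i) u (y := k ^ m') h1 ?_
        ((Commute.refl k).pow_pow i m'))
      have := mul_inv_eq_one.1 hst
      simpa [cj] using this
  obtain ⟨φ, -, h1', hadd, hconj⟩ := exists_param (F := F) hp hall hS.surj hf g hg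
    ((Commute.refl k).pow_right i) (mul_inv_eq_one.1 hku)
  exact ⟨φ, h1', hadd, hconj⟩

omit [Fact p.Prime] [Algebra (ZMod p) F] in
theorem zero_of_add {P : Type*} [Group P] {φ : F → P} (hadd : ∀ a b, φ (a + b) = φ a * φ b) :
    φ 0 = 1 := by
  have := hadd 0 0
  rw [add_zero] at this
  exact left_eq_mul.1 this

theorem pword_act {P : Type*} [Group P] {φ : F → P} (hadd : ∀ a b, φ (a + b) = φ a * φ b) {k : P}
    {r : Fˣ} (hk : Act k φ r) (i : ℕ) (g : (ZMod p)[X]) :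
    pword (k ^ i) (φ 1) g = φ (aeval ((r : F) ^ i) g) :=
  pword_of_param φ (zero_of_add hadd) hadd
    (fun b => by rw [(hk.pow i) b, Units.val_pow_eq_pow_val]) g

theorem act_of_conj {P : Type*} [Group P] {φ : F → P} (hadd : ∀ a b, φ (a + b) = φ a * φ b)
    {k z : P} {r : Fˣ} (hk : Act k φ r) (i : ℕ) (n : ℤ)
    (hs : Function.Surjective ⇑(Polynomial.aeval ((r : F) ^ i) : (ZMod p)[X] →ₐ[ZMod p] F))
    (hz : Commute z (k ^ i)) (h1 : z * φ 1 * z⁻¹ = k ^ n * φ 1 * (k ^ n)⁻¹) :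
    Act z φ (r ^ n) := by
  intro b
  obtain ⟨g, rfl⟩ := hs b
  have e1 : ∀ w : P, Commute w (k ^ i) →
      w * pword (k ^ i) (φ 1) g * w⁻¹ = pword (k ^ i) (w * φ 1 * w⁻¹) g := by
    intro w hw
    rw [← MulAut.conj_apply, ← MulEquiv.coe_toMonoidHom, map_pword, MulEquiv.coe_toMonoidHom,
      MulAut.conj_apply, MulAut.conj_apply, hw.eq, mul_inv_cancel_right]
  have hkn : Commute (k ^ n) (k ^ i) := ((Commute.refl k).zpow_left n).pow_right i
  rw [← pword_act hadd hk i g, e1 z hz, h1, ← e1 _ hkn, pword_act hadd hk i g]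
  exact (hk.zpow n) _

theorem root_model {P : Type*} [Group P] {φ : F → P} (hadd : ∀ a b, φ (a + b) = φ a * φ b)
    {k : P} {r : Fˣ} (hk : Act k φ r) {i : ℕ} {st : Option ℕ} (hS : Step p r i st)
    (g : (ZMod p)[X]) (hg : aeval ((r : F) ^ i) g = (r : F)) :
    ∀ z ∈ rootRels p i st (minpoly (ZMod p) ((r : F) ^ i)) g k (φ 1), z = 1 := by
  have hchar : CharP F p := charP_of_injective_algebraMap (algebraMap (ZMod p) F).injective p
  have h0 := zero_of_add hadd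
  have hpow : ∀ n : ℕ, φ 1 ^ n = φ (n : F) := by
    intro n
    induction n with
    | zero => simp [h0]
    | succ n ih => rw [pow_succ, ih, Nat.cast_succ, hadd]
  have hki : ∀ n : ℕ, k ^ n * φ 1 * (k ^ n)⁻¹ = φ ((r : F) ^ n) := fun n => by
    rw [(hk.pow n) 1, mul_one, Units.val_pow_eq_pow_val]
  simp only [rootRels, List.forall_mem_cons, List.not_mem_nil, IsEmpty.forall_iff, implies_true,
    and_true, pword_act hadd hk i, minpoly.aeval, h0, hki, hpow, CharP.cast_eq_zero F p, hg,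
    mul_inv_eq_one, commutatorElement_eq_one_iff_commute, true_and]
  refine ⟨?_, ?_, ?_⟩
  · simpa using hk 1
  · show _ = _
    rw [← hadd, ← hadd, add_comm]
  · cases hm : st with
    | none => rfl
    | some m => rw [Option.elim_some, ← hadd, hS.step m hm, mul_inv_cancel]

/-- The parameters of a presentation. -/
structure Par (p : ℕ) where
  /-- exponent giving `-1` -/
  e : ℕ
  /-- power of `k` spreading the short root group -/
  iu : ℕ
  /-- power of `k` spreading the long root group -/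
  iv : ℕ
  /-- exponent giving `-ν⁻¹` -/
  j : ℕ
  /-- step of the short root group -/
  stu : Option ℕ
  /-- step of the long root group -/
  stv : Option ℕ
  /-- relation polynomial, short root -/
  fu : (ZMod p)[X]
  /-- relation polynomial, long root -/
  fv : (ZMod p)[X]
  /-- action polynomial, short root -/
  gu : (ZMod p)[X]
  /-- action polynomial, long root -/
  gv : (ZMod p)[X]
  /-- polynomial giving `ν` -/
  gn : (ZMod p)[X]
  /-- polynomial giving `-ν⁻¹` -/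
  gd : (ZMod p)[X]

/-- The correctness of the parameters. -/
structure Par.Ok {p : ℕ} [Fact p.Prime] {F : Type*} [Field F] [Algebra (ZMod p) F] (D : Par p)
    (ν : Fˣ) : Prop where
  neg : (ν : F) ^ D.e = -1
  hj : (ν : F) ^ D.j = -(ν : F)⁻¹
  su : Step p ν⁻¹ D.iu D.stu
  sv : Step p (ν ^ 2) D.iv D.stv
  hfu : D.fu = minpoly (ZMod p) (((ν⁻¹ : Fˣ) : F) ^ D.iu)
  hfv : D.fv = minpoly (ZMod p) (((ν ^ 2 : Fˣ) : F) ^ D.iv)
  hgu : aeval (((ν⁻¹ : Fˣ) : F) ^ D.iu) D.gu = ((ν⁻¹ : Fˣ) : F)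
  hgv : aeval (((ν ^ 2 : Fˣ) : F) ^ D.iv) D.gv = ((ν ^ 2 : Fˣ) : F)
  hgn : aeval (((ν ^ 2 : Fˣ) : F) ^ D.iv) D.gn = (ν : F)
  hgd : aeval (((ν ^ 2 : Fˣ) : F) ^ D.iv) D.gd = -(ν : F)⁻¹

/-- The relators apart from the order of `h`. -/
noncomputable def coreRels {G : Type*} [Group G] {p : ℕ} (D : Par p) (N : ℕ) (u v h k a b : G) :
    List G :=
  rootRels p D.iu D.stu D.fu D.gu k u ++ (rootRels p D.iv D.stv D.fv D.gv k v ++
  [h * u * h⁻¹ * ((k * k)⁻¹ * u * (k * k))⁻¹,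
   h * v * h⁻¹ * (k⁻¹ * v * k)⁻¹,
   ⁅h, k⁆,
   k ^ N,
   a * h * a⁻¹ * h,
   a * k * a⁻¹ * (h * k)⁻¹,
   b * h * b⁻¹ * (h * (k * k))⁻¹,
   b * k * b⁻¹ * k,
   a * a * (h ^ D.e)⁻¹,
   b * b * (k ^ D.e)⁻¹,
   a * b * (a * b) * (b * a * (b * a))⁻¹,
   b * (a * v * a⁻¹) * b⁻¹ * (a * v * a⁻¹)⁻¹,
   a * (b * u * b⁻¹) * a⁻¹ * (b * u * b⁻¹),
   ⁅v, b * u * b⁻¹⁆,
   ⁅v, a * v * a⁻¹⁆,
   ⁅u, a * v * a⁻¹⁆,
   ⁅u, b * u * b⁻¹⁆ * (a * v * a⁻¹ * (a * v * a⁻¹)),
   ⁅u, v⁆ * (a * v * a⁻¹ * (b * u * b⁻¹)⁻¹)⁻¹,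
   a * u * a * (u⁻¹ * h ^ D.e * a * u⁻¹)⁻¹,
   b * v * b * (v⁻¹ * k ^ D.e * b * v⁻¹)⁻¹,
   b * pword (k ^ D.iv) v D.gn * b *
     (pword (k ^ D.iv) v D.gd * k ^ D.j * b * pword (k ^ D.iv) v D.gd)⁻¹])

/-- All the relators. -/
noncomputable def allRels {G : Type*} [Group G] {p : ℕ} (D : Par p) (N₁ N₂ : ℕ)
    (u v h k a b : G) : List G :=
  h ^ N₁ :: coreRels D N₂ u v h k a b

theorem map_coreRels {G H : Type*} [Group G] [Group H] (f : G →* H) (D : Par p) (N : ℕ)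
    (u v h k a b : G) :
    (coreRels D N u v h k a b).map f = coreRels D N (f u) (f v) (f h) (f k) (f a) (f b) := by
  simp [coreRels, map_rootRels, commutatorElement_def, map_pword]

theorem map_allRels {G H : Type*} [Group G] [Group H] (f : G →* H) (D : Par p) (N₁ N₂ : ℕ)
    (u v h k a b : G) :
    (allRels D N₁ N₂ u v h k a b).map f = allRels D N₁ N₂ (f u) (f v) (f h) (f k) (f a) (f b) := by
  simp [allRels, map_coreRels]

theorem length_allRels {G : Type*} [Group G] (D : Par p) (N₁ N₂ : ℕ) (u v h k a b : G) :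
    (allRels D N₁ N₂ u v h k a b).length = 32 := by
  simp [allRels, coreRels, rootRels]

theorem model_core {P : Type*} [Group P] {φ ψ : F → P} {h k a b : P} {ν : Fˣ} {D : Par p}
    {N : ℕ} (hD : D.Ok ν) (T : Base φ ψ h k a b ν D.e) (hk : k ^ N = 1)
    (braid : a * b * (a * b) = b * a * (b * a))
    (fixb : b * rz ψ a 1 * b⁻¹ = rz ψ a 1)
    (fixa : a * ry φ b 1 * a⁻¹ = ry φ b (-1))
    (cvy : Commute (ψ 1) (ry φ b 1)) (cvz : Commute (ψ 1) (rz ψ a 1))
    (cuz : Commute (φ 1) (rz ψ a 1))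
    (cuy : ⁅φ 1, ry φ b 1⁆ = rz ψ a (-2))
    (cuv : ⁅φ 1, ψ 1⁆ = rz ψ a 1 * ry φ b (-1))
    (repa : a * φ 1 * a = φ (-1) * h ^ D.e * a * φ (-1))
    (repb : b * ψ 1 * b = ψ (-1) * k ^ D.e * b * ψ (-1))
    (repn : b * ψ (ν : F) * b = ψ (-(ν : F)⁻¹) * k ^ D.j * b * ψ (-(ν : F)⁻¹)) :
    ∀ z ∈ coreRels D N (φ 1) (ψ 1) h k a b, z = 1 := by
  intro z hz
  simp only [coreRels, List.mem_append] at hz
  rcases hz with hz | hz | hz
  · exact root_model T.addu T.ku hD.su D.gu hD.hgu z (by rw [← hD.hfu]; exact hz)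
  · exact root_model T.addv T.kv hD.sv D.gv hD.hgv z (by rw [← hD.hfv]; exact hz)
  revert z
  simp only [List.forall_mem_cons, List.not_mem_nil, IsEmpty.forall_iff, implies_true, and_true,
    commutatorElement_eq_one_iff_commute, pword_act T.addv T.kv, hD.hgn, hD.hgd, mul_inv_eq_one,
    ← T.negu, ← T.negv, T.b_phi, T.a_psi, hk, true_and]
  have e1 := (T.ku.mul T.ku).inv 1
  have e2 := T.kv.inv 1
  rw [inv_inv] at e1 e2
  refine ⟨?_, ?_, T.hk, by rw [T.ah, inv_mul_cancel], T.ak, T.bh, by rw [T.bk, inv_mul_cancel],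
    T.aa, T.bb, braid, fixb, ?_, cvy, cvz, cuz, ?_, cuv.trans ?_, repa, repb, repn⟩
  · rw [T.hu, e1, show (ν⁻¹ * ν⁻¹)⁻¹ = ν ^ 2 by group]
  · rw [T.hv, e2]
  · rw [fixa, T.negy, inv_mul_cancel]
  · rw [cuy, ← T.addz, ← T.addz, show (-2 : F) + (1 + 1) = 0 by norm_num, T.zeroz]
  · rw [T.negy]

theorem derive [Fintype F] {P : Type*} [Group P] {u v h k a b : P} {ν : Fˣ}
    (hν : orderOf ν = Fintype.card F - 1) {D : Par p} {N : ℕ} (hD : D.Ok ν)
    (hr : ∀ z ∈ coreRels D N u v h k a b, z = 1) :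
    ∃ φ ψ : F → P, φ 1 = u ∧ ψ 1 = v ∧ Full φ ψ h k a b ν D.e ∧
      (∀ t, t ≠ 0 → Rep h k a φ t) ∧ (∀ t, t ≠ 0 → Rep h k b ψ t) ∧ k ^ N = 1 := by
  simp only [coreRels, List.forall_mem_append] at hr
  obtain ⟨hru, hrv, hrest⟩ := hr
  rw [hD.hfu] at hru
  rw [hD.hfv] at hrv
  obtain ⟨φ, rfl, addu, ku⟩ := exists_root hD.su D.gu hD.hgu hru
  obtain ⟨ψ, rfl, addv, kv⟩ := exists_root hD.sv D.gv hD.hgv hrv
  simp only [List.forall_mem_cons, List.not_mem_nil, IsEmpty.forall_iff, implies_true, and_true,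
    commutatorElement_eq_one_iff_commute, pword_act addv kv, hD.hgn, hD.hgd, mul_inv_eq_one]
    at hrest
  obtain ⟨hhu, hhv, hk, hkN, ah, ak, bh, bk, aa, bb, braid, fixb, fixa, cvy, cvz, cuz, cuy, cuv,
    repa, repb, repn⟩ := hrest
  have hu : Act h φ (ν ^ 2) := by
    have := act_of_conj addu ku D.iu (-2) hD.su.surj (hk.pow_right _)
      (hhu.trans (by rw [zpow_neg, zpow_ofNat, pow_two, inv_inv]))
    rwa [show (ν⁻¹) ^ (-2 : ℤ) = ν ^ 2 by group] at this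
  have hv : Act h ψ (ν ^ 2)⁻¹ := by
    have := act_of_conj addv kv D.iv (-1) hD.sv.surj (hk.pow_right _)
      (hhv.trans (by group))
    rwa [zpow_neg_one] at this
  have T : Base φ ψ h k a b ν D.e :=
    ⟨hD.neg, fun t ht => exists_pow_eq hν ht, addu, addv, hk, eq_inv_of_mul_eq_one_left ah, ak, bh,
      eq_inv_of_mul_eq_one_left bk, aa, bb, hu, ku, hv, kv⟩
  rw [T.b_phi] at fixa cvy cuy cuv
  rw [T.a_psi] at fixb cvz cuz cuy cuv
  have U := T.exists_full (p := p) (surjective_sq hν) braid fixb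
    (by rw [T.negy]; exact eq_inv_of_mul_eq_one_left fixa) cvy cvz cuz
    (by rw [show (-2 : F) = -(1 + 1) by norm_num, T.negz, T.addz]
        exact eq_inv_of_mul_eq_one_left cuy)
    (by rw [T.negy]; exact cuv)
  have mh : ∀ n : ℕ, h ^ n ∈ tor h k := fun n => pow_mem (Subgroup.subset_closure (by simp)) n
  have mk : ∀ n : ℕ, k ^ n ∈ tor h k := fun n => pow_mem (Subgroup.subset_closure (by simp)) n
  refine ⟨φ, ψ, rfl, rfl, U, U.rep_a ⟨-1, _, mh D.e, -1, ?_⟩,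
    U.rep_b ⟨-1, _, mk D.e, -1, ?_⟩ ⟨-(ν : F)⁻¹, _, mk D.j, -(ν : F)⁻¹, repn⟩, hkN⟩
  · rw [T.negu]; exact repa
  · rw [T.negv]; exact repb

end Cfsg.Agent.SpFourPres
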