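import Cfsg.Agent.SpFourPres.Model

/-!
# Short presentations of Sp4: generation of the matrix group
-/

set_option autoImplicit false

namespace Cfsg.Agent.SpFourPres

open Matrix Cfsg.Agent.SL3Pres Cfsg.Agent.SL2Pres

variable {F : Type*} [Field F]

/-- A vector from its coordinates. -/
def vec (x₀ x₁ y₀ y₁ : F) : Fin 2 ⊕ Fin 2 → F := Sum.elim ![x₀, x₁] ![y₀, y₁]

theorem vec_eta (w : Fin 2 ⊕ Fin 2 → F) :
    vec (w (Sum.inl 0)) (w (Sum.inl 1)) (w (Sum.inr 0)) (w (Sum.inr 1)) = w := by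
  ext (i | i) <;> fin_cases i <;> rfl

/-- Proves an identity of vectors entrywise. -/
syntax "vecs" : tactic

macro_rules
  | `(tactic| vecs) => `(tactic|
      (ext (i | i) <;> fin_cases i <;>
        simp [vec, Matrix.mulVec, dotProduct, Fintype.sum_sum_type, Fin.sum_univ_two] <;>
        (try field_simp) <;> (try ring)))

theorem uM_vec (t x₀ x₁ y₀ y₁ : F) :
    (uM t).1 *ᵥ vec x₀ x₁ y₀ y₁ = vec (x₀ + t * x₁) x₁ y₀ (y₁ - t * y₀) := by
  simp only [uM]; vecs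

theorem vM_vec (t x₀ x₁ y₀ y₁ : F) :
    (vM t).1 *ᵥ vec x₀ x₁ y₀ y₁ = vec x₀ (x₁ + t * y₁) y₀ y₁ := by
  simp only [vM]; vecs

theorem aM_vec (x₀ x₁ y₀ y₁ : F) :
    (aM : Sp4 F).1 *ᵥ vec x₀ x₁ y₀ y₁ = vec x₁ (-x₀) y₁ (-y₀) := by
  simp only [aM]; vecs

theorem bM_vec (x₀ x₁ y₀ y₁ : F) :
    (bM : Sp4 F).1 *ᵥ vec x₀ x₁ y₀ y₁ = vec x₀ y₁ y₀ (-x₁) := by
  simp only [bM]; vecs

theorem transv_e0 (c : F) :
    Cfsg.sympTransvection 2 (vec 1 0 0 0) c = (zM c).1 := by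
  refine Matrix.ext_of_mulVec_single fun i => ?_
  rw [Classical.sympTransvection_mulVec, Classical.sympB_eq_sum]
  rcases i with i | i <;> fin_cases i <;> (ext (j | j) <;> fin_cases j <;>
    simp [zM, vec, Fin.sum_univ_two])

theorem closure_model [Fintype F] {p : ℕ} [Fact p.Prime] [Algebra (ZMod p) F] {ν : Fˣ}
    (hν : orderOf ν = Fintype.card F - 1) {e : ℕ} (he : (ν : F) ^ e = -1) :
    Subgroup.closure ({uM (1 : F), vM 1, hM ν, kM ν, aM, bM} : Set (Sp4 F)) = ⊤ := by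
  have T := model_base he fun t ht => exists_pow_eq hν ht
  set M := Subgroup.closure ({uM (1 : F), vM 1, hM ν, kM ν, aM, bM} : Set (Sp4 F)) with hM'
  have mu : uM (1 : F) ∈ M := Subgroup.subset_closure (by simp)
  have mv : vM (1 : F) ∈ M := Subgroup.subset_closure (by simp)
  have mk : kM ν ∈ M := Subgroup.subset_closure (by simp)
  have ma : aM ∈ M := Subgroup.subset_closure (by simp)
  have mb : bM ∈ M := Subgroup.subset_closure (by simp)
  have u_mem : ∀ t : F, uM t ∈ M := by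
    intro t
    rcases eq_or_ne t 0 with rfl | ht
    · rw [T.zerou]; exact one_mem M
    obtain ⟨n, rfl⟩ := exists_pow_eq hν ht
    induction n with
    | zero => simpa using mu
    | succ n ih =>
      have := T.ku.inv ((ν : F) ^ n)
      simp only [inv_inv] at this
      rw [pow_succ', ← this]
      exact mul_mem (mul_mem (inv_mem mk) (ih (pow_ne_zero _ ν.ne_zero))) mk
  have v_mem : ∀ t : F, vM t ∈ M := by
    refine span_all (surjective_sq (p := p) hν) (B := {t | vM t ∈ M}) ?_ ?_ ?_ mv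
    · show vM (0 : F) ∈ M
      rw [T.zerov]; exact one_mem M
    · intro s hs t ht
      show vM (s + t) ∈ M
      rw [T.addv]; exact mul_mem hs ht
    · intro t ht
      show vM ((ν : F) ^ 2 * t) ∈ M
      rw [← Units.val_pow_eq_pow_val, ← T.kv t]
      exact mul_mem (mul_mem mk ht) (inv_mem mk)
  have z_mem : ∀ t : F, zM t ∈ M := fun t => by
    rw [← rz_eq t]; exact mul_mem (mul_mem ma (v_mem _)) (inv_mem ma)
  let C : Set (Fin 2 ⊕ Fin 2 → F) := {w | ∀ (c : F) (A : Sp4 F),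
    A.1 = Cfsg.sympTransvection 2 w c → A ∈ M}
  have hmove : ∀ g ∈ M, ∀ w, g.1 *ᵥ w ∈ C → w ∈ C := by
    intro g hg w hw c A hA
    have key : (g * A * g⁻¹).1 = Cfsg.sympTransvection 2 (g.1 *ᵥ w) c := by
      refine Matrix.ext_of_mulVec_single fun i => ?_
      rw [Submonoid.coe_mul, Submonoid.coe_mul, ← Matrix.mulVec_mulVec, ← Matrix.mulVec_mulVec, hA,
        Classical.sympTransvection_mulVec, Classical.sympTransvection_mulVec, Matrix.mulVec_add,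
        Matrix.mulVec_smul, Matrix.mulVec_mulVec, ← Submonoid.coe_mul, mul_inv_cancel,
        OneMemClass.coe_one, Matrix.one_mulVec]
      congr 2
      have h1 := (Classical.mem_symplectic_iff g.1).1 g.2 ((g⁻¹).1 *ᵥ Pi.single i 1) w
      rw [Matrix.mulVec_mulVec, ← Submonoid.coe_mul, mul_inv_cancel, OneMemClass.coe_one,
        Matrix.one_mulVec] at h1
      rw [h1]
    have := mul_mem (mul_mem (inv_mem hg) (hw c _ key)) hg
    simpa [mul_assoc] using this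
  have hline : ∀ x : F, vec x 0 0 0 ∈ C := by
    intro x c A hA
    have : A = zM (c * x * x) := Subtype.ext (by
      rw [hA, ← transv_e0]
      refine Matrix.ext_of_mulVec_single fun i => ?_
      rw [Classical.sympTransvection_mulVec, Classical.sympTransvection_mulVec]
      have e1 : vec x 0 0 0 = x • vec (1 : F) 0 0 0 := by vecs
      rw [e1, map_smul, smul_eq_mul, smul_smul]
      congr 2; ring)
    rw [this]; exact z_mem _
  have hx0 : ∀ x₀ x₁ y₀ y₁ : F, x₀ ≠ 0 → vec x₀ x₁ y₀ y₁ ∈ C := by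
    -- lower root elements clear the other coordinates
    intro x₀ x₁ y₀ y₁ hx
    have lu : ∀ t x₁ y₀ y₁, (aM * uM t * aM⁻¹ : Sp4 F).1 *ᵥ vec x₀ x₁ y₀ y₁ =
        vec x₀ (x₁ - t * x₀) (y₀ + t * y₁) y₁ := by
      intro t x₁ y₀ y₁
      have hainv : (aM : Sp4 F)⁻¹.1 *ᵥ vec x₀ x₁ y₀ y₁ = vec (-x₁) x₀ (-y₁) y₀ := by
        have h1 := aM_vec (F := F) (-x₁) x₀ (-y₁) y₀
        rw [neg_neg, neg_neg] at h1
        rw [← h1, Matrix.mulVec_mulVec, ← Submonoid.coe_mul, inv_mul_cancel, OneMemClass.coe_one,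
          Matrix.one_mulVec]
      rw [Submonoid.coe_mul, Submonoid.coe_mul, ← Matrix.mulVec_mulVec, ← Matrix.mulVec_mulVec,
        hainv, uM_vec, aM_vec]
      congr 1 <;> ring
    have ly : ∀ t x₁ y₀ y₁, (bM * (aM * uM t * aM⁻¹) * bM⁻¹ : Sp4 F).1 *ᵥ vec x₀ x₁ y₀ y₁ =
        vec x₀ x₁ (y₀ + t * x₁) (y₁ + t * x₀) := by
      intro t x₁ y₀ y₁
      have hbinv : (bM : Sp4 F)⁻¹.1 *ᵥ vec x₀ x₁ y₀ y₁ = vec x₀ (-y₁) y₀ x₁ := by
        have h1 := bM_vec (F := F) x₀ (-y₁) y₀ x₁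
        rw [neg_neg] at h1
        rw [← h1, Matrix.mulVec_mulVec, ← Submonoid.coe_mul, inv_mul_cancel, OneMemClass.coe_one,
          Matrix.one_mulVec]
      rw [Submonoid.coe_mul, Submonoid.coe_mul _ bM (aM * uM t * aM⁻¹), ← Matrix.mulVec_mulVec, ← Matrix.mulVec_mulVec,
        hbinv, lu, bM_vec]
      congr 1; ring
    have lz : ∀ t y₀, (aM * (bM * vM t * bM⁻¹) * aM⁻¹ : Sp4 F).1 *ᵥ vec x₀ 0 y₀ 0 =
        vec x₀ 0 (y₀ - t * x₀) 0 := by
      intro t y₀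
      have h1 : (aM : Sp4 F)⁻¹.1 *ᵥ vec x₀ 0 y₀ 0 = vec 0 x₀ 0 y₀ := by
        have h1 := aM_vec (F := F) 0 x₀ 0 y₀
        rw [neg_zero] at h1
        rw [← h1, Matrix.mulVec_mulVec, ← Submonoid.coe_mul, inv_mul_cancel, OneMemClass.coe_one,
          Matrix.one_mulVec]
      have h2 : (bM : Sp4 F)⁻¹.1 *ᵥ vec 0 x₀ 0 y₀ = vec 0 (-y₀) 0 x₀ := by
        have h1 := bM_vec (F := F) 0 (-y₀) 0 x₀
        rw [neg_neg] at h1
        rw [← h1, Matrix.mulVec_mulVec, ← Submonoid.coe_mul, inv_mul_cancel, OneMemClass.coe_one,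
          Matrix.one_mulVec]
      simp only [Submonoid.coe_mul, ← Matrix.mulVec_mulVec]
      rw [h1, h2, vM_vec, bM_vec, aM_vec]
      congr 1 <;> ring
    have m1 : ∀ t, aM * uM t * aM⁻¹ ∈ M := fun t => mul_mem (mul_mem ma (u_mem t)) (inv_mem ma)
    refine hmove _ (m1 (x₁ / x₀)) _ ?_
    rw [lu, div_mul_cancel₀ _ hx, sub_self]
    refine hmove _ (mul_mem (mul_mem mb (m1 (-y₁ / x₀))) (inv_mem mb)) _ ?_
    rw [ly, div_mul_cancel₀ _ hx, add_neg_cancel, mul_zero, add_zero]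
    refine hmove _ (mul_mem (mul_mem ma (mul_mem (mul_mem mb (v_mem ((y₀ + x₁ / x₀ * y₁) / x₀)))
      (inv_mem mb))) (inv_mem ma)) _ ?_
    rw [lz, div_mul_cancel₀ _ hx, sub_self]
    exact hline x₀
  have hx1 : ∀ x₀ x₁ y₀ y₁ : F, x₁ ≠ 0 → vec x₀ x₁ y₀ y₁ ∈ C := fun x₀ x₁ y₀ y₁ hx =>
    hmove _ ma _ (by rw [aM_vec]; exact hx0 _ _ _ _ hx)
  have hy1 : ∀ x₀ x₁ y₀ y₁ : F, y₁ ≠ 0 → vec x₀ x₁ y₀ y₁ ∈ C := fun x₀ x₁ y₀ y₁ hy =>
    hmove _ mb _ (by rw [bM_vec]; exact hx1 _ _ _ _ hy)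
  have hall : ∀ x₀ x₁ y₀ y₁ : F, vec x₀ x₁ y₀ y₁ ∈ C := by
    intro x₀ x₁ y₀ y₁
    rcases ne_or_eq x₀ 0 with h | rfl
    · exact hx0 _ _ _ _ h
    rcases ne_or_eq x₁ 0 with h | rfl
    · exact hx1 _ _ _ _ h
    rcases ne_or_eq y₁ 0 with h | rfl
    · exact hy1 _ _ _ _ h
    rcases ne_or_eq y₀ 0 with h | rfl
    · exact hmove _ ma _ (by rw [aM_vec]; exact hy1 _ _ _ _ (neg_ne_zero.2 h))
    · exact hline 0
  rw [eq_top_iff, ← Classical.closure_sympTransvection]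
  refine (Subgroup.closure_le _).2 ?_
  rintro A ⟨w, c, hA⟩
  exact (vec_eta w ▸ hall _ _ _ _ : w ∈ C) c A hA

end Cfsg.Agent.SpFourPres
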