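import Cfsg.Agent.SpFourPres.Derive
import Cfsg.Agent.Classical.SympGroup

/-!
# Short presentations of Sp4: the matrix group
-/

set_option autoImplicit false

namespace Cfsg.Agent.SpFourPres

open Matrix Cfsg.Agent.SL3Pres
open scoped commutatorElement

variable {F : Type*} [Field F]

/-- The group `Sp(4, F)`. -/
abbrev Sp4 (F : Type*) [Field F] := Matrix.symplecticGroup (Fin 2) F

/-- Proves an identity of 4 × 4 block matrices entrywise. -/
syntax "blocks" : tactic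

macro_rules
  | `(tactic| blocks) => `(tactic|
      (ext (i | i) (j | j) <;> fin_cases i <;> fin_cases j <;>
        simp [Matrix.mul_apply, Fintype.sum_sum_type, Fin.sum_univ_two, Matrix.J,
          Matrix.one_apply] <;> (try field_simp) <;> (try ring)))

/-- The short simple root element. -/
def uM (t : F) : Sp4 F :=
  ⟨fromBlocks !![1, t; 0, 1] !![0, 0; 0, 0] !![0, 0; 0, 0] !![1, 0; -t, 1],
    SymplecticGroup.mem_iff.2 (by blocks)⟩

/-- The long simple root element. -/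
def vM (t : F) : Sp4 F :=
  ⟨fromBlocks !![1, 0; 0, 1] !![0, 0; 0, t] !![0, 0; 0, 0] !![1, 0; 0, 1],
    SymplecticGroup.mem_iff.2 (by blocks)⟩

/-- The root element of the sum of the simple roots. -/
def yM (t : F) : Sp4 F :=
  ⟨fromBlocks !![1, 0; 0, 1] !![0, -t; -t, 0] !![0, 0; 0, 0] !![1, 0; 0, 1],
    SymplecticGroup.mem_iff.2 (by blocks)⟩

/-- The highest root element. -/
def zM (t : F) : Sp4 F :=
  ⟨fromBlocks !![1, 0; 0, 1] !![t, 0; 0, 0] !![0, 0; 0, 0] !![1, 0; 0, 1],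
    SymplecticGroup.mem_iff.2 (by blocks)⟩

/-- The torus of the short root. -/
def hM (x : Fˣ) : Sp4 F :=
  ⟨fromBlocks !![(x : F), 0; 0, (x : F)⁻¹] !![0, 0; 0, 0] !![0, 0; 0, 0]
      !![(x : F)⁻¹, 0; 0, (x : F)],
    SymplecticGroup.mem_iff.2 (by blocks)⟩

/-- The torus of the long root. -/
def kM (x : Fˣ) : Sp4 F :=
  ⟨fromBlocks !![1, 0; 0, (x : F)] !![0, 0; 0, 0] !![0, 0; 0, 0] !![1, 0; 0, (x : F)⁻¹],
    SymplecticGroup.mem_iff.2 (by blocks)⟩

/-- The reflection of the short root. -/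
def aM : Sp4 F :=
  ⟨fromBlocks !![0, 1; -1, 0] !![0, 0; 0, 0] !![0, 0; 0, 0] !![0, 1; -1, 0],
    SymplecticGroup.mem_iff.2 (by blocks)⟩

/-- The reflection of the long root. -/
def bM : Sp4 F :=
  ⟨fromBlocks !![1, 0; 0, 0] !![0, 0; 0, 1] !![0, 0; 0, -1] !![1, 0; 0, 0],
    SymplecticGroup.mem_iff.2 (by blocks)⟩

theorem uM_add (s t : F) : uM (s + t) = uM s * uM t :=
  Subtype.ext (by simp only [uM, Submonoid.coe_mul]; blocks)

theorem vM_add (s t : F) : vM (s + t) = vM s * vM t :=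
  Subtype.ext (by simp only [vM, Submonoid.coe_mul]; blocks)

theorem hM_mul (x y : Fˣ) : hM (x * y) = hM x * hM y :=
  Subtype.ext (by simp only [hM, Submonoid.coe_mul]; blocks)

theorem kM_mul (x y : Fˣ) : kM (x * y) = kM x * kM y :=
  Subtype.ext (by simp only [kM, Submonoid.coe_mul]; blocks)

theorem hM_one : hM (1 : Fˣ) = 1 := by
  have := hM_mul (F := F) 1 1
  rw [one_mul] at this
  exact left_eq_mul.1 this

theorem kM_one : kM (1 : Fˣ) = 1 := by
  have := kM_mul (F := F) 1 1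
  rw [one_mul] at this
  exact left_eq_mul.1 this

theorem hM_inv (x : Fˣ) : hM x⁻¹ = (hM x)⁻¹ :=
  eq_inv_of_mul_eq_one_left (by rw [← hM_mul, inv_mul_cancel, hM_one])

theorem kM_inv (x : Fˣ) : kM x⁻¹ = (kM x)⁻¹ :=
  eq_inv_of_mul_eq_one_left (by rw [← kM_mul, inv_mul_cancel, kM_one])

theorem hM_pow (x : Fˣ) (n : ℕ) : hM x ^ n = hM (x ^ n) := by
  induction n with
  | zero => simp [hM_one]
  | succ n ih => rw [pow_succ, ih, pow_succ, hM_mul]

theorem kM_pow (x : Fˣ) (n : ℕ) : kM x ^ n = kM (x ^ n) := by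
  induction n with
  | zero => simp [kM_one]
  | succ n ih => rw [pow_succ, ih, pow_succ, kM_mul]

theorem hk_comm (x y : Fˣ) : hM x * kM y = kM y * hM x :=
  Subtype.ext (by simp only [hM, kM, Submonoid.coe_mul]; blocks)

theorem aM_hM (x : Fˣ) : aM * hM x * aM⁻¹ = hM x⁻¹ :=
  mul_inv_eq_iff_eq_mul.2 (Subtype.ext (by simp only [aM, hM, Submonoid.coe_mul]; blocks))

theorem aM_kM (x : Fˣ) : aM * kM x * aM⁻¹ = hM x * kM x :=
  mul_inv_eq_iff_eq_mul.2 (Subtype.ext (by simp only [aM, hM, kM, Submonoid.coe_mul]; blocks))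

theorem bM_hM (x : Fˣ) : bM * hM x * bM⁻¹ = hM x * (kM x * kM x) :=
  mul_inv_eq_iff_eq_mul.2 (Subtype.ext (by simp only [bM, hM, kM, Submonoid.coe_mul]; blocks))

theorem bM_kM (x : Fˣ) : bM * kM x * bM⁻¹ = kM x⁻¹ :=
  mul_inv_eq_iff_eq_mul.2 (Subtype.ext (by simp only [bM, kM, Submonoid.coe_mul]; blocks))

theorem aM_sq : aM * aM = hM (-1 : Fˣ) :=
  Subtype.ext (by simp only [aM, hM, Submonoid.coe_mul]; blocks)

theorem bM_sq : bM * bM = kM (-1 : Fˣ) :=
  Subtype.ext (by simp only [bM, kM, Submonoid.coe_mul]; blocks)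

theorem act_hu (x : Fˣ) : Act (hM x) (uM (F := F)) (x ^ 2) := fun t =>
  mul_inv_eq_iff_eq_mul.2 (Subtype.ext (by simp only [uM, hM, Submonoid.coe_mul]; blocks))

theorem act_ku (x : Fˣ) : Act (kM x) (uM (F := F)) x⁻¹ := fun t =>
  mul_inv_eq_iff_eq_mul.2 (Subtype.ext (by simp only [uM, kM, Submonoid.coe_mul]; blocks))

theorem act_hv (x : Fˣ) : Act (hM x) (vM (F := F)) (x ^ 2)⁻¹ := fun t =>
  mul_inv_eq_iff_eq_mul.2 (Subtype.ext (by simp only [vM, hM, Submonoid.coe_mul]; blocks))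

theorem act_kv (x : Fˣ) : Act (kM x) (vM (F := F)) (x ^ 2) := fun t =>
  mul_inv_eq_iff_eq_mul.2 (Subtype.ext (by simp only [vM, kM, Submonoid.coe_mul]; blocks))

theorem model_base {ν : Fˣ} {e : ℕ} (he : (ν : F) ^ e = -1)
    (hgen : ∀ t : F, t ≠ 0 → ∃ i : ℕ, t = (ν : F) ^ i) :
    Base (uM (F := F)) vM (hM ν) (kM ν) aM bM ν e := by
  have h1 : ν ^ e = (-1 : Fˣ) := Units.ext (by simpa using he)
  refine ⟨he, hgen, uM_add, vM_add, hk_comm ν ν, ?_, aM_kM ν, bM_hM ν, ?_, ?_, ?_, act_hu ν,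
    act_ku ν, act_hv ν, act_kv ν⟩
  · rw [aM_hM, hM_inv]
  · rw [bM_kM, kM_inv]
  · rw [hM_pow, h1, aM_sq]
  · rw [kM_pow, h1, bM_sq]

theorem ry_eq (t : F) : ry uM bM t = yM t :=
  mul_inv_eq_iff_eq_mul.2 (Subtype.ext (by simp only [uM, bM, yM, Submonoid.coe_mul]; blocks))

theorem rz_eq (t : F) : rz vM aM t = zM t :=
  mul_inv_eq_iff_eq_mul.2 (Subtype.ext (by simp only [vM, aM, zM, Submonoid.coe_mul]; blocks))

theorem model_braid : aM * bM * (aM * bM) = bM * aM * (bM * (aM : Sp4 F)) :=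
  Subtype.ext (by simp only [aM, bM, Submonoid.coe_mul]; blocks)

theorem model_fixb : bM * rz vM aM 1 * bM⁻¹ = rz vM (aM : Sp4 F) 1 := by
  rw [rz_eq]
  exact mul_inv_eq_iff_eq_mul.2 (Subtype.ext (by simp only [bM, zM, Submonoid.coe_mul]; blocks))

theorem model_fixa : aM * ry uM bM 1 * aM⁻¹ = ry uM (bM : Sp4 F) (-1) := by
  rw [ry_eq, ry_eq]
  exact mul_inv_eq_iff_eq_mul.2 (Subtype.ext (by simp only [aM, yM, Submonoid.coe_mul]; blocks))

theorem model_cvy : Commute (vM (1 : F)) (ry uM bM 1) := by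
  rw [ry_eq]
  exact Subtype.ext (by simp only [vM, yM, Submonoid.coe_mul]; blocks)

theorem model_cvz : Commute (vM (1 : F)) (rz vM aM 1) := by
  rw [rz_eq]
  exact Subtype.ext (by simp only [vM, zM, Submonoid.coe_mul]; blocks)

theorem model_cuz : Commute (uM (1 : F)) (rz vM aM 1) := by
  rw [rz_eq]
  exact Subtype.ext (by simp only [uM, zM, Submonoid.coe_mul]; blocks)

theorem comm_eq_of {G : Type*} [Group G] {x y z : G} (h : x * y = z * y * x) : ⁅x, y⁆ = z := by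
  rw [commutatorElement_def, h]; group

theorem model_cuy : ⁅uM (1 : F), ry uM bM 1⁆ = rz vM aM (-2 : F) := by
  rw [ry_eq, rz_eq]
  exact comm_eq_of (Subtype.ext (by simp only [uM, yM, zM, Submonoid.coe_mul]; blocks))

theorem model_cuv : ⁅uM (1 : F), vM 1⁆ = rz vM aM (1 : F) * ry uM bM (-1 : F) := by
  rw [ry_eq, rz_eq]
  exact comm_eq_of (Subtype.ext (by simp only [uM, vM, yM, zM, Submonoid.coe_mul]; blocks))

theorem model_repa : aM * uM (1 : F) * aM = uM (-1) * hM (-1) * aM * uM (-1) :=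
  Subtype.ext (by simp only [uM, aM, hM, Submonoid.coe_mul]; blocks)

theorem model_repb (x : Fˣ) : bM * vM (x : F) * bM =
    vM (-(x : F)⁻¹) * kM (-x⁻¹) * bM * vM (-(x : F)⁻¹) :=
  Subtype.ext (by simp only [vM, bM, kM, Submonoid.coe_mul]; blocks)

theorem model_rels {p : ℕ} [Fact p.Prime] [Algebra (ZMod p) F] {ν : Fˣ}
    (hgen : ∀ t : F, t ≠ 0 → ∃ i : ℕ, t = (ν : F) ^ i) {D : Par p} (hD : D.Ok ν) {N : ℕ}
    (hN : ν ^ N = 1) :
    ∀ z ∈ coreRels D N (uM (1 : F)) (vM 1) (hM ν) (kM ν) aM bM, z = 1 := by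
  have h1 : ν ^ D.e = (-1 : Fˣ) := Units.ext (by simpa using hD.neg)
  have hj : ν ^ D.j = -ν⁻¹ := Units.ext (by simpa using hD.hj)
  refine model_core hD (model_base hD.neg hgen) (by rw [kM_pow, hN, kM_one]) model_braid model_fixb
    model_fixa model_cvy model_cvz model_cuz model_cuy model_cuv ?_ ?_ ?_
  · rw [hM_pow, h1]; exact model_repa
  · have := model_repb (1 : Fˣ)
    rw [Units.val_one, inv_one, inv_one] at this
    rw [kM_pow, h1]; exact this
  · rw [kM_pow, hj]; exact model_repb ν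

theorem hM_neg_one_central : hM (-1 : Fˣ) ∈ Subgroup.center (Sp4 F) := by
  refine Subgroup.mem_center_iff.2 fun g => Subtype.ext ?_
  have h : (hM (-1 : Fˣ) : Sp4 F).1 = -1 := by simp only [hM]; blocks
  rw [Submonoid.coe_mul, Submonoid.coe_mul, h]
  simp

end Cfsg.Agent.SpFourPres
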