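import Cfsg.Agent.SpFourPres.Core
import Cfsg.Agent.SL2Pres.Presentations

/-!
# Short presentations of Sp4: the relations from single instances
-/

set_option autoImplicit false

namespace Cfsg.Agent.SpFourPres

open Polynomial Cfsg.Agent.SL3Pres
open scoped commutatorElement

variable {P : Type*} [Group P] {F : Type*} [Field F]

/-- An additively closed set stable under a generator of the field and containing `1` is all. -/
theorem span_all {p : ℕ} [Fact p.Prime] [Algebra (ZMod p) F] {l : F}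
    (hs : Function.Surjective ⇑(Polynomial.aeval l : (ZMod p)[X] →ₐ[ZMod p] F)) {B : Set F}
    (h0 : (0 : F) ∈ B) (hadd : ∀ a ∈ B, ∀ b ∈ B, a + b ∈ B) (hmul : ∀ x ∈ B, l * x ∈ B)
    (h1 : (1 : F) ∈ B) (x : F) : x ∈ B := by
  obtain ⟨g, rfl⟩ := hs x
  induction g using Polynomial.induction_on' with
  | add g₁ g₂ ih₁ ih₂ => rw [map_add]; exact hadd _ ih₁ _ ih₂
  | monomial n a =>
    have hn : l ^ n ∈ B := by
      induction n with
      | zero => rwa [pow_zero]
      | succ n ih => rw [pow_succ']; exact hmul _ ih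
    have hc : ∀ m : ℕ, (m : F) * l ^ n ∈ B := by
      intro m
      induction m with
      | zero => simpa using h0
      | succ m ih => rw [Nat.cast_succ, add_mul, one_mul]; exact hadd _ ih _ hn
    rw [aeval_monomial, ← ZMod.natCast_rightInverse a, map_natCast]
    exact hc _

theorem map_commutator_conj (z x y : P) : z * ⁅x, y⁆ * z⁻¹ = ⁅z * x * z⁻¹, z * y * z⁻¹⁆ := by
  simp only [commutatorElement_def]; group

theorem comm_mul_right (x y y' : P) : ⁅x, y * y'⁆ = ⁅x, y⁆ * (y * ⁅x, y'⁆ * y⁻¹) := by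
  simp only [commutatorElement_def]; group

theorem commute_scale {X Y : F → P} {z : P} {r s : Fˣ} (hX : Act z X r) (hY : Act z Y s) {a b : F}
    (h : Commute (X a) (Y b)) : Commute (X ((r : F) * a)) (Y ((s : F) * b)) := by
  rw [← hX a, ← hY b]
  exact h.map (MulAut.conj z).toMonoidHom

namespace Base

variable {φ ψ : F → P} {h k a b : P} {ν : Fˣ} {e : ℕ} (T : Base φ ψ h k a b ν e)

include T

theorem act_hk2_u : Act (h * (k * k)) φ 1 := by
  have := T.hu.mul (T.ku.mul T.ku)
  rwa [show ν ^ 2 * (ν⁻¹ * ν⁻¹) = 1 by group] at this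

theorem act_hk2_v : Act (h * (k * k)) ψ (ν ^ 2) := by
  have := T.hv.mul (T.kv.mul T.kv)
  rwa [show (ν ^ 2)⁻¹ * (ν ^ 2 * ν ^ 2) = ν ^ 2 by group] at this

theorem act_hk2_y : Act (h * (k * k)) (ry φ b) (ν ^ 2) := by
  have := T.hy.mul (T.ky.mul T.ky)
  rwa [show (1 : Fˣ) * (ν * ν) = ν ^ 2 by rw [one_mul, pow_two]] at this

theorem act_hk2_z : Act (h * (k * k)) (rz ψ a) (ν ^ 2) := by
  have := T.hz.mul (T.kz.mul T.kz)
  rwa [show ν ^ 2 * ((1 : Fˣ) * 1) = ν ^ 2 by group] at this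

theorem act_hk_u : Act (h * k) φ ν := by
  have := T.hu.mul T.ku
  rwa [show ν ^ 2 * ν⁻¹ = ν by group] at this

theorem act_hk_v : Act (h * k) ψ 1 := by
  have := T.hv.mul T.kv
  rwa [show (ν ^ 2)⁻¹ * ν ^ 2 = 1 by group] at this

theorem act_hk_y : Act (h * k) (ry φ b) ν := by
  have := T.hy.mul T.ky
  rwa [one_mul] at this

theorem act_hk_z : Act (h * k) (rz ψ a) (ν ^ 2) := by
  have := T.hz.mul T.kz
  rwa [mul_one] at this

variable {p : ℕ} [Fact p.Prime] [Algebra (ZMod p) F]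
  (hs : Function.Surjective ⇑(Polynomial.aeval ((ν : F) ^ 2) : (ZMod p)[X] →ₐ[ZMod p] F))

include hs

theorem exists_full (braid : a * b * (a * b) = b * a * (b * a))
    (fixb : b * rz ψ a 1 * b⁻¹ = rz ψ a 1)
    (fixa : a * ry φ b 1 * a⁻¹ = ry φ b (-1))
    (cvy : Commute (ψ 1) (ry φ b 1)) (cvz : Commute (ψ 1) (rz ψ a 1))
    (cuz : Commute (φ 1) (rz ψ a 1))
    (cuy : ⁅φ 1, ry φ b 1⁆ = rz ψ a (-2))
    (cuv : ⁅φ 1, ψ 1⁆ = rz ψ a 1 * ry φ b (-1)) :
    Full φ ψ h k a b ν e := by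
  have Fb : ∀ t, b * rz ψ a t * b⁻¹ = rz ψ a t := by
    refine span_all hs (B := {t | b * rz ψ a t * b⁻¹ = rz ψ a t}) ?_ ?_ ?_ fixb
    · simp [T.zeroz]
    · intro s hs t ht
      simp only [Set.mem_setOf_eq] at hs ht ⊢
      rw [T.addz, show b * (rz ψ a s * rz ψ a t) * b⁻¹ =
        (b * rz ψ a s * b⁻¹) * (b * rz ψ a t * b⁻¹) by group, hs, ht]
    · intro t ht
      simp only [Set.mem_setOf_eq] at ht ⊢
      rw [← Units.val_pow_eq_pow_val, ← T.hz t]
      calc b * (h * rz ψ a t * h⁻¹) * b⁻¹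
          = (b * h * b⁻¹) * (b * rz ψ a t * b⁻¹) * (b * h * b⁻¹)⁻¹ := by group
        _ = _ := by rw [T.bh, ht, T.act_hk2_z t, T.hz t]
  have Fa : ∀ t, a * ry φ b t * a⁻¹ = ry φ b (-t) := by
    intro t
    rcases eq_or_ne t 0 with rfl | ht
    · simp [T.zeroy]
    obtain ⟨n, rfl⟩ := T.gen t ht
    induction n with
    | zero => simpa using fixa
    | succ n ih =>
      have ih := ih (pow_ne_zero _ ν.ne_zero)
      rw [pow_succ']
      conv_lhs => rw [← T.ky ((ν : F) ^ n)]
      calc a * (k * ry φ b ((ν : F) ^ n) * k⁻¹) * a⁻¹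
          = (a * k * a⁻¹) * (a * ry φ b ((ν : F) ^ n) * a⁻¹) * (a * k * a⁻¹)⁻¹ := by group
        _ = _ := by rw [T.ak, ih, T.act_hk_y, mul_neg]
  have Cvy : ∀ s t, Commute (ψ s) (ry φ b t) := by
    have h1 : ∀ s, Commute (ψ s) (ry φ b 1) := by
      refine span_all hs (B := {s | Commute (ψ s) (ry φ b 1)}) ?_ ?_ ?_ cvy
      · simp [T.zerov]
      · intro s hs t ht; simp only [Set.mem_setOf_eq] at hs ht ⊢; rw [T.addv]; exact hs.mul_left ht
      · intro s hs'
        have := commute_scale T.hv.inv T.hy.inv hs'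
        simpa using this
    intro s t
    rcases eq_or_ne t 0 with rfl | ht
    · simp [T.zeroy]
    obtain ⟨n, rfl⟩ := T.gen t ht
    induction n with
    | zero => simpa using h1 s
    | succ n ih =>
      have := commute_scale T.act_hk_v T.act_hk_y (ih (pow_ne_zero _ ν.ne_zero))
      rwa [Units.val_one, one_mul, ← pow_succ'] at this
  have Cvz : ∀ s t, Commute (ψ s) (rz ψ a t) := by
    have h1 : ∀ s, Commute (ψ s) (rz ψ a 1) := by
      refine span_all hs (B := {s | Commute (ψ s) (rz ψ a 1)}) ?_ ?_ ?_ cvz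
      · simp [T.zerov]
      · intro s hs t ht; simp only [Set.mem_setOf_eq] at hs ht ⊢; rw [T.addv]; exact hs.mul_left ht
      · intro s hs'
        have := commute_scale T.kv T.kz hs'
        simpa using this
    intro s
    refine span_all hs (B := {t | Commute (ψ s) (rz ψ a t)}) ?_ ?_ ?_ (h1 s)
    · simp [T.zeroz]
    · intro x hx t ht; simp only [Set.mem_setOf_eq] at hx ht ⊢; rw [T.addz]; exact hx.mul_right ht
    · intro t ht
      have := commute_scale T.act_hk_v T.act_hk_z ht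
      simpa using this
  have Cyz : ∀ s t, Commute (ry φ b s) (rz ψ a t) := by
    intro s t
    have := (Cvy t (-s)).symm.map (MulAut.conj a).toMonoidHom
    simp only [MulEquiv.coe_toMonoidHom, MulAut.conj_apply] at this
    rwa [Fa, neg_neg, T.a_psi] at this
  have Cuz : ∀ s t, Commute (φ s) (rz ψ a t) := by
    have h1 : ∀ t, Commute (φ 1) (rz ψ a t) := by
      refine span_all hs (B := {t | Commute (φ 1) (rz ψ a t)}) ?_ ?_ ?_ cuz
      · simp [T.zeroz]
      · intro x hx t ht; simp only [Set.mem_setOf_eq] at hx ht ⊢; rw [T.addz]; exact hx.mul_right ht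
      · intro t ht
        have := commute_scale T.act_hk2_u T.act_hk2_z ht
        simpa using this
    intro s t
    rcases eq_or_ne s 0 with rfl | hs'
    · simp [T.zerou]
    obtain ⟨n, rfl⟩ := T.gen s hs'
    induction n with
    | zero => simpa using h1 t
    | succ n ih =>
      have := commute_scale T.ku.inv T.kz.inv (ih (pow_ne_zero _ ν.ne_zero))
      rwa [inv_inv, inv_one, Units.val_one, one_mul, ← pow_succ'] at this
  have Cuy : ∀ s t, ⁅φ s, ry φ b t⁆ = rz ψ a (-(2 * s * t)) := by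
    have h1 : ∀ t, ⁅φ 1, ry φ b t⁆ = rz ψ a (-(2 * t)) := by
      refine span_all hs (B := {t | ⁅φ 1, ry φ b t⁆ = rz ψ a (-(2 * t))}) ?_ ?_ ?_ ?_
      · simp [T.zeroy, T.zeroz]
      · intro s hs t ht
        simp only [Set.mem_setOf_eq] at hs ht ⊢
        rw [T.addy, comm_mul_right, hs, ht, (Cyz s _).eq, mul_inv_cancel_right, ← T.addz]
        congr 1; ring
      · intro t ht
        simp only [Set.mem_setOf_eq] at ht ⊢
        have := congrArg (fun x => h * (k * k) * x * (h * (k * k))⁻¹) ht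
        simp only [map_commutator_conj] at this
        rw [T.act_hk2_u, T.act_hk2_y, T.act_hk2_z, Units.val_one, one_mul,
          Units.val_pow_eq_pow_val] at this
        rw [this]
        congr 1; ring
      · simpa using cuy
    intro s t
    rcases eq_or_ne s 0 with rfl | hs'
    · simp [T.zerou, T.zeroz]
    obtain ⟨n, rfl⟩ := T.gen s hs'
    induction n generalizing t with
    | zero => simpa using h1 t
    | succ n ih =>
      have := congrArg (fun x => k⁻¹ * x * k⁻¹⁻¹)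
        (ih ((ν : F) * t) (pow_ne_zero _ ν.ne_zero))
      simp only [map_commutator_conj] at this
      rw [T.ku.inv, T.ky.inv, T.kz.inv, inv_inv, inv_one, Units.val_one, one_mul, ← pow_succ',
        Units.val_inv_eq_inv_val, inv_mul_cancel_left₀ ν.ne_zero] at this
      rw [this]
      congr 1; ring
  refine ⟨T, braid, Fb, Fa, ?_, Cuy, Cuz, Cvy, Cvz, Cyz⟩
  have h1 : ∀ t, ⁅φ 1, ψ t⁆ = rz ψ a t * ry φ b (-t) := by
    refine span_all hs (B := {t | ⁅φ 1, ψ t⁆ = rz ψ a t * ry φ b (-t)}) ?_ ?_ ?_ cuv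
    · simp [T.zerov, T.zeroy, T.zeroz]
    · intro s hs t ht
      simp only [Set.mem_setOf_eq] at hs ht ⊢
      rw [T.addv, comm_mul_right, hs, ht,
        (((Cvz s t).mul_right (Cvy s (-t))).eq), mul_inv_cancel_right, neg_add, T.addy, T.addz]
      calc rz ψ a s * ry φ b (-s) * (rz ψ a t * ry φ b (-t))
          = rz ψ a s * (ry φ b (-s) * rz ψ a t) * ry φ b (-t) := by group
        _ = _ := by rw [(Cyz (-s) t).eq]; group
    · intro t ht
      simp only [Set.mem_setOf_eq] at ht ⊢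
      have := congrArg (fun x => h * (k * k) * x * (h * (k * k))⁻¹) ht
      simp only [map_commutator_conj] at this
      rw [T.act_hk2_u, T.act_hk2_v, Units.val_one, one_mul, Units.val_pow_eq_pow_val,
        show ∀ x y : P, h * (k * k) * (x * y) * (h * (k * k))⁻¹ =
          (h * (k * k) * x * (h * (k * k))⁻¹) * (h * (k * k) * y * (h * (k * k))⁻¹) from
          fun x y => by group, T.act_hk2_y, T.act_hk2_z, Units.val_pow_eq_pow_val, mul_neg] at this
      exact this
  intro s t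
  rcases eq_or_ne s 0 with rfl | hs'
  · simp [T.zerou, T.zeroy, T.zeroz]
  obtain ⟨n, rfl⟩ := T.gen s hs'
  induction n with
  | zero => simpa using h1 t
  | succ n ih =>
    have := congrArg (fun x => h * k * x * (h * k)⁻¹) (ih (pow_ne_zero _ ν.ne_zero))
    simp only [map_commutator_conj] at this
    rw [T.act_hk_u, T.act_hk_v, Units.val_one, one_mul, ← pow_succ',
      show ∀ x y : P, h * k * (x * y) * (h * k)⁻¹ =
        (h * k * x * (h * k)⁻¹) * (h * k * y * (h * k)⁻¹) from fun x y => by group,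
      T.act_hk_y, T.act_hk_z, Units.val_pow_eq_pow_val] at this
    rw [this]
    congr 2 <;> ring

end Base

namespace Full

variable {φ ψ : F → P} {h k a b : P} {ν : Fˣ} {e : ℕ} (T : Full φ ψ h k a b ν e)

include T

theorem rep_scale (s : Bool) {τ : P} (hτ : τ ∈ tor h k) {r : Fˣ} (hr : Act τ (Xl φ ψ s) r) {t : F}
    (ht : Rep h k (gl a b s) (Xl φ ψ s) t) : Rep h k (gl a b s) (Xl φ ψ s) ((r : F) * t) := by
  obtain ⟨d, σ, hσ, d', hd⟩ := ht
  set g := gl a b s
  set X := Xl φ ψ s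
  have hact : ∀ z ∈ tor h k, ∃ c, Act z X c := by
    intro z hz
    cases s
    · exact (T.tor_act hz).1
    · exact (T.tor_act hz).2.1
  have h1 : g * τ * g⁻¹ ∈ tor h k := T.gl_tor s hτ
  have h2 : g⁻¹ * τ⁻¹ * g ∈ tor h k := by
    have : g⁻¹ * τ⁻¹ * g = (g * g)⁻¹ * (g * τ * g⁻¹)⁻¹ * (g * g) := by group
    rw [this]
    exact mul_mem (mul_mem (inv_mem (T.gl_sq s)) (inv_mem h1)) (T.gl_sq s)
  obtain ⟨c1, a1⟩ := hact _ h1
  obtain ⟨c2, a2⟩ := hact _ (inv_mem h2)
  refine ⟨(c1 : F) * d, g * τ * g⁻¹ * σ * (g * (g⁻¹ * τ⁻¹ * g) * g⁻¹),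
    mul_mem (mul_mem h1 hσ) (T.gl_tor s h2), (c2 : F) * d', ?_⟩
  rw [← hr t, ← a1 d, ← a2 d']
  calc g * (τ * X t * τ⁻¹) * g = (g * τ * g⁻¹) * (g * X t * g) * (g⁻¹ * τ⁻¹ * g) := by group
    _ = _ := by rw [hd]; group

theorem rep_a (h1 : Rep h k a φ 1) (t : F) (ht : t ≠ 0) : Rep h k a φ t := by
  obtain ⟨n, rfl⟩ := T.gen t ht
  induction n with
  | zero => simpa using h1
  | succ n ih =>
    rw [pow_succ']
    refine T.rep_scale false (τ := k⁻¹) (inv_mem (Subgroup.subset_closure (by simp))) ?_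
      (ih (pow_ne_zero _ ν.ne_zero))
    have := T.ku.inv
    rwa [inv_inv] at this

theorem rep_b (h1 : Rep h k b ψ 1) (hν : Rep h k b ψ (ν : F)) (t : F) (ht : t ≠ 0) :
    Rep h k b ψ t := by
  have key : ∀ n : ℕ, ∀ x, Rep h k b ψ x → Rep h k b ψ (((ν : F) ^ 2) ^ n * x) := by
    intro n x hx
    induction n with
    | zero => simpa using hx
    | succ n ih =>
      rw [pow_succ', mul_assoc, ← Units.val_pow_eq_pow_val ν 2]
      exact T.rep_scale true (τ := k) (Subgroup.subset_closure (by simp)) T.kv ih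
  obtain ⟨i, rfl⟩ := T.gen t ht
  rcases Nat.even_or_odd' i with ⟨n, rfl | rfl⟩
  · rw [pow_mul, ← mul_one (((ν : F) ^ 2) ^ n)]; exact key n 1 h1
  · rw [pow_succ, pow_mul]; exact key n _ hν

end Full

end Cfsg.Agent.SpFourPres
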